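import Groth.Agent.H25Div.LocalSpec
import Groth.Agent.H29Ref.DenseExt
import Groth.Agent.H29Ref.Free
import Groth.Agent.H29Ref.Ops
import Groth.Agent.H28Contr.Dominate
import Groth.Agent.H8Props.NormalLowDim

/-!
# Extending invertible modules across parafactorial points of a normal scheme
-/

set_option autoImplicit false
set_option maxHeartbeats 800000
set_option linter.style.haveILetI false
universe u

open CategoryTheory CategoryTheory.Limits AlgebraicGeometry Opposite TopologicalSpace

namespace Groth.Agent.H12Pic.FinKer

variable {X : Scheme.{u}}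

/-- On a normal integral scheme an invertible module on a nonempty open extends if the points outside of
dimension at least two are parafactorial. -/
theorem exists_extension_of_parafactorial [IsIntegral X] [IsLocallyNoetherian X] (hX : Pi1.IsNormalScheme X)
    (U : X.Opens) (hne : (U : Set X).Nonempty) (L : (U : Scheme.{u}).Modules) (hL : PicF.IsInvertible L)
    (hp : ∀ x : X, x ∉ U → (2 : WithBot ℕ∞) ≤ ringKrullDim (X.presheaf.stalk x) →
      ParaF.IsParafactorialLocalRing (X.presheaf.stalk x)) :
    ∃ L' : X.Modules, PicF.IsInvertible L' ∧ Nonempty (L'.restrict U.ι ≅ L) := by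
  obtain ⟨K, hK, ⟨e⟩, -⟩ := H29Ref.exists_coh_extension U L (H11Ample.isCoh_of_isInvertible hL)
  have hfree1 : ∀ x ∈ U, H8Props.FunDescent.StalkFree K 1 x := fun x hx =>
    H8Props.FunDescent.stalkFree_of_isFreeOfRankNear K hK.1 (H29Ref.isFreeOfRankNear_of_restrict K U hL e x hx)
  obtain ⟨y, hy⟩ := hne
  have hR := H29Ref.isRef1_ddual K hK (hfree1 _ (H29Ref.genericPoint_mem hy))
  let F := RefHull.ddual K
  have hrefl := (H29Ref.isReflexive_iff F hR.1).1 hR.2.1
  have hFP := H10Coh.isFP_of_isCoh K hK
  have hFP' := H29Ref.isFP_dual K hK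
  have hbij : ∀ x ∈ U, Function.Bijective (RefHull.stalkMapₗ (RefHull.bidualMap K) x) := fun x hx => by
    obtain ⟨b⟩ := hfree1 x hx
    haveI := Module.Free.of_basis b
    haveI := Module.Finite.of_basis b
    exact (H29Ref.isReflexiveAt_iff K hFP hFP' x).mp
      (show Module.IsReflexive (X.presheaf.stalk x) (K.presheaf.stalk x) from inferInstance)
  have key : ∀ (d : WithBot ℕ∞) (x : X), ringKrullDim (X.presheaf.stalk x) = d →
      Module.Free (X.presheaf.stalk x) (F.presheaf.stalk x) := by
    intro d
    induction d using WellFoundedLT.induction with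
    | _ d ih =>
      intro x hd
      by_cases hx : x ∈ U
      · obtain ⟨b⟩ := hfree1 x hx
        exact Module.Free.of_basis (b.map (LinearEquiv.ofBijective _ (hbij x hx)))
      haveI := (hX x).1
      haveI := (hX x).2
      haveI : Module.Finite (X.presheaf.stalk x) (F.presheaf.stalk x) := H29Ref.finite_stalk F hR.1.2 x
      haveI : Module.IsReflexive (X.presheaf.stalk x) (F.presheaf.stalk x) := hrefl x
      by_cases h2 : (2 : WithBot ℕ∞) ≤ ringKrullDim (X.presheaf.stalk x)
      · exact H25Div.free_of_parafactorial hX x hR h2 (hp x hx h2) fun z hz hzx =>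
          ih _ (hd ▸ H28Contr.ringKrullDim_stalk_lt hz hzx) z rfl
      · have h1 : ringKrullDim (X.presheaf.stalk x) ≤ 1 := by
          rw [not_le] at h2
          revert h2
          generalize ringKrullDim (X.presheaf.stalk x) = n
          intro h2
          induction n with
          | bot => exact bot_le
          | coe m =>
            have h3 : m < (1 : ℕ∞) + 1 := by
              rw [one_add_one_eq_two]
              exact WithBot.coe_lt_coe.1 h2
            exact_mod_cast Order.le_of_lt_add_one h3
        haveI := H8Props.NormalLowDim.isRegularLocalRing_of_dim_le_one (R := X.presheaf.stalk x) h1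
        exact H29Ref.free_of_isTorsionFree (F.presheaf.stalk x) h1
  refine ⟨F, H29Ref.isInvertible_of_free_stalk F hR.1 hR.2.2 fun x => key _ x rfl, ?_⟩
  haveI := H29Ref.isIso_restrict_of_bijective U (RefHull.bidualMap K) hbij
  exact ⟨(asIso ((Scheme.Modules.restrictFunctor U.ι).map (RefHull.bidualMap K))).symm ≪≫ e⟩

end Groth.Agent.H12Pic.FinKer
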