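import Groth.Agent.H12Pic.FinKer.Extend
import Groth.Agent.H22Alg.VarGeom
import Groth.Agent.H06Red.Scheme
import Groth.Agent.H28Def.DefFunctor
import Groth.Agent.H28Neron.NormalSmooth
import Groth.Agent.S2858

/-!
# Invertible modules on the product of a normal variety and a smooth curve extend
-/

set_option autoImplicit false
set_option maxHeartbeats 800000
set_option linter.style.haveILetI false
universe u

open CategoryTheory CategoryTheory.Limits AlgebraicGeometry Opposite TopologicalSpace

namespace Groth.Agent.H12Pic.FinKer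

variable {k : Type u} [Field k] [IsAlgClosed k]

theorem geometricallyIntegral_of_isAlgClosed {Z : Scheme.{u}} (f : Z ⟶ Spec (CommRingCat.of k))
    [LocallyOfFiniteType f] [IsIntegral Z] : GeometricallyIntegral f := by
  haveI := H22Alg.VarGeom.geometricallyIrreducible_of_isSepClosed f
  haveI := H06Red.geometricallyReduced_of_perfectField f
  exact GeometricallyIntegral.of_geometricallyReduced_of_geometricallyIrreducible f

theorem isIntegral_prod {Y N : Scheme.{u}} (p : Y ⟶ Spec (CommRingCat.of k)) (q : N ⟶ Spec (CommRingCat.of k))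
    [LocallyOfFiniteType p] [IsIntegral Y] [LocallyOfFiniteType q] [IsIntegral N] :
    IsIntegral (pullback p q) := by
  haveI := geometricallyIntegral_of_isAlgClosed q
  haveI : Flat q := H28Def.flat_of_field q
  haveI : LocallyOfFinitePresentation q := inferInstance
  haveI : IsLocallyNoetherian Y := LocallyOfFiniteType.isLocallyNoetherian p
  infer_instance

/-- On an integral curve the points outside a nonempty open are closed. -/
theorem isClosed_singleton_of_notMem {N : Scheme.{u}} [IsIntegral N] (hd : topologicalKrullDim N ≤ 1)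
    (T : N.Opens) (hT : (T : Set N).Nonempty) (n : N) (hn : n ∉ T) : IsClosed ({n} : Set N) := by
  obtain ⟨t, ht⟩ := hT
  have hη : genericPoint N ∈ T := ((genericPoint_spec N).specializes (Set.mem_univ t)).mem_open T.2 ht
  by_contra hc
  obtain ⟨m, hm, hmn⟩ : ∃ m ∈ closure ({n} : Set N), m ≠ n := by
    by_contra h
    push Not at h
    exact hc (closure_eq_iff_isClosed.1 ((Set.Subset.antisymm (fun m hm => h m hm) subset_closure)))
  have h1 : n ⤳ m := specializes_iff_mem_closure.2 hm
  let C : N → IrreducibleCloseds N := fun a =>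
    ⟨closure {a}, isIrreducible_singleton.closure, isClosed_closure⟩
  have hlt : ∀ a b : N, b ⤳ a → a ≠ b → C a < C b := fun a b hs hne => by
    refine lt_of_le_of_ne ?_ fun e => hne ?_
    · exact closure_minimal (Set.singleton_subset_iff.2 hs.mem_closure) isClosed_closure
    · exact (Specializes.antisymm (specializes_iff_mem_closure.2
        (show b ∈ closure {a} from (congrArg (fun D : IrreducibleCloseds N => (D : Set N)) e).ge (subset_closure rfl)))
        hs).eq
  have h01 := hlt m n h1 hmn
  have h12 := hlt n (genericPoint N) ((genericPoint_spec N).specializes (Set.mem_univ n)) fun e => hn (e ▸ hη)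
  exact absurd (Order.krullDim_le_one_iff.1 hd (C n)) (by
    rintro (h | h)
    · exact h.not_lt h01
    · exact h.not_lt h12)

variable {Y N : Scheme.{u}} (p : Y ⟶ Spec (CommRingCat.of k)) (q : N ⟶ Spec (CommRingCat.of k))

theorem one_le_fiberStalk [IsIntegral N] [LocallyOfFiniteType q] (x : ↥(pullback p q))
    (hx : IsClosed ({pullback.snd p q x} : Set N)) (hne : pullback.snd p q x ≠ genericPoint N) :
    (1 : WithBot ℕ∞) ≤ ringKrullDim (CInt.fiberStalk (pullback.fst p q) x) := by
  let f := pullback.fst p q
  let y := f x
  let g : f.fiber y ⟶ N := f.fiberι y ≫ pullback.snd p q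
  have hsq : IsPullback g (f.fiberToSpecResidueField y) q (Y.fromSpecResidueField y ≫ p) :=
    (IsPullback.of_hasPullback f (Y.fromSpecResidueField y)).paste_horiz (IsPullback.of_hasPullback p q).flip
  haveI : Flat g := MorphismProperty.of_isPullback hsq.flip (H28Def.flat_of_field _)
  have hv : g (f.asFiber x) = pullback.snd p q x := by
    show (f.fiberι y ≫ pullback.snd p q) _ = _
    rw [Scheme.Hom.comp_apply]
    exact congrArg _ (f.fiberι_asFiber x)
  obtain ⟨v, hvx, hgv⟩ := Flat.generalizingMap g
    (show genericPoint N ⤳ g (f.asFiber x) from (genericPoint_spec N).specializes (Set.mem_univ _))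
  haveI : LocallyOfFiniteType (f.fiberToSpecResidueField y) := MorphismProperty.pullback_snd _ _ inferInstance
  haveI : IsLocallyNoetherian (f.fiber y) := LocallyOfFiniteType.isLocallyNoetherian (f.fiberToSpecResidueField y)
  have hlt := H28Contr.ringKrullDim_stalk_lt hvx fun e => hne (by rw [← hv, ← hgv, e])
  have h0 : (0 : WithBot ℕ∞) ≤ ringKrullDim ((f.fiber y).presheaf.stalk v) := ringKrullDim_nonneg_of_nontrivial
  exact (show (1 : WithBot ℕ∞) ≤ Order.succ 0 from le_rfl).trans (Order.succ_le_of_lt (h0.trans_lt hlt))

/-- An invertible module over `Y × T` extends to `Y × N`, for `Y` normal and `N` a smooth curve. -/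
theorem exists_curve_extension [IsIntegral Y] [LocallyOfFiniteType p] (hY : Pi1.IsNormalScheme Y)
    [IsIntegral N] [Smooth q] (hd : topologicalKrullDim N ≤ 1) (T : N.Opens) (hT : (T : Set N).Nonempty)
    [Nonempty Y] (L : ((pullback.snd p q ⁻¹ᵁ T : (pullback p q).Opens) : Scheme.{u}).Modules)
    (hL : PicF.IsInvertible L) :
    ∃ L' : (pullback p q).Modules, PicF.IsInvertible L' ∧
      Nonempty (L'.restrict (pullback.snd p q ⁻¹ᵁ T).ι ≅ L) := by
  haveI : IsLocallyNoetherian Y := LocallyOfFiniteType.isLocallyNoetherian p
  haveI := isIntegral_prod p q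
  haveI : IsLocallyNoetherian (pullback p q) := LocallyOfFiniteType.isLocallyNoetherian (pullback.fst p q)
  have hN := H28Neron.isNormalScheme_of_smooth (pullback.fst p q) hY
  have hη : genericPoint N ∈ T := by
    obtain ⟨t, ht⟩ := hT
    exact ((genericPoint_spec N).specializes (Set.mem_univ t)).mem_open T.2 ht
  refine exists_extension_of_parafactorial hN _ ?_ L hL fun x hx h2 =>
    Groth.Agent.S2858.result hY (pullback.fst p q) x h2
      (one_le_fiberStalk p q x (isClosed_singleton_of_notMem hd T hT _ hx) fun e =>
        hx (show pullback.snd p q x ∈ T from e ▸ hη))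
  obtain ⟨t, ht⟩ := hT
  haveI : Surjective p := ⟨fun z => ⟨Classical.arbitrary Y, Subsingleton.elim (α := PrimeSpectrum k) _ _⟩⟩
  haveI : Surjective (pullback.snd p q) := MorphismProperty.pullback_snd _ _ inferInstance
  obtain ⟨z, hz⟩ := (pullback.snd p q).surjective t
  exact ⟨z, show pullback.snd p q z ∈ T from hz ▸ ht⟩

end Groth.Agent.H12Pic.FinKer
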