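import Groth.Agent.H22Alg.ESZInt
import Groth.Agent.H17.Ample.GenAffine
import Groth.Agent.H29Ref.Hartogs
import Groth.Agent.H25Rig.Rigidity
import Groth.Agent.H8Props.FieldDimFormula
import Groth.Agent.H12Pic.FinKer.CurveProd

/-!
# Morphisms from a normal variety contracting an ample divisor are constant
-/

set_option autoImplicit false
set_option maxHeartbeats 800000
set_option linter.style.haveILetI false
universe u

open CategoryTheory CategoryTheory.Limits AlgebraicGeometry Opposite TopologicalSpace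

namespace Groth.Agent.H12Pic.FinKer

variable {k : Type u} [Field k] {Y : Scheme.{u}} (pY : Y ⟶ Spec (CommRingCat.of k))

theorem ringKrullDim_stalk_closed [LocallyOfFiniteType pY] [IrreducibleSpace Y] {x : Y}
    (hx : IsClosed ({x} : Set Y)) : ringKrullDim (Y.presheaf.stalk x) = topologicalKrullDim Y := by
  have h1 := H8Props.FieldDim.localDim_eq_stalk_add_cdim pY x
  rw [H8Props.FieldDim.localDim_eq_dim_of_irreducible pY, H28Int.Curves.cdim_closed (by exact hx), Nat.cast_zero,
    add_zero] at h1
  exact h1.symm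

/-- A closed subset of a proper scheme lying in an affine open consists of finitely many closed points. -/
theorem finite_of_subset_affine [IsProper pY] {C : Set Y} (hC : IsClosed C) {U : Y.Opens} (hU : IsAffineOpen U)
    (hCU : C ⊆ U) : C.Finite ∧ ∀ x ∈ C, IsClosed ({x} : Set Y) := by
  haveI : IsAffine (U : Scheme.{u}) := hU
  let J := Scheme.IdealSheafData.vanishingIdeal ⟨C, hC⟩
  have hrange : Set.range J.subschemeι = C := H17.range_vanishingIdeal_subschemeι ⟨C, hC⟩
  let l : J.subscheme ⟶ U := IsOpenImmersion.lift U.ι J.subschemeι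
    (by rw [Scheme.Opens.range_ι, hrange]; exact hCU)
  have hl : l ≫ U.ι = J.subschemeι := IsOpenImmersion.lift_fac _ _ _
  haveI : IsClosedImmersion (l ≫ U.ι) := by rw [hl]; infer_instance
  haveI : IsClosedImmersion l := IsClosedImmersion.of_comp l U.ι
  haveI : IsAffine J.subscheme := isAffine_of_isAffineHom l
  let s := J.subschemeι ≫ pY
  haveI : IsAffineHom s := isAffineHom_of_isAffine _
  haveI : IsFinite s := IsFinite.iff_isProper_and_isAffineHom.2 ⟨inferInstance, inferInstance⟩
  have hfin : (Set.univ : Set J.subscheme).Finite := by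
    refine (s.finite_preimage_singleton (IsLocalRing.closedPoint k)).subset fun z _ => ?_
    exact Subsingleton.elim (α := PrimeSpectrum k) _ _
  have hCf : C.Finite := by rw [← hrange, ← Set.image_univ]; exact hfin.image _
  refine ⟨hCf, fun x hx => ?_⟩
  haveI : JacobsonSpace Y := LocallyOfFiniteType.jacobsonSpace pY
  have h : closure (C ∩ closedPoints Y) = C := by
    refine Set.Subset.antisymm (closure_minimal Set.inter_subset_left hC) ?_
    rw [JacobsonSpace.closure_inter_closedPoints hC]
  have hcl : IsClosed (C ∩ closedPoints Y) := by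
    have hb : C ∩ closedPoints Y = ⋃ y ∈ C ∩ closedPoints Y, {y} := (Set.biUnion_of_singleton _).symm
    rw [hb]
    exact (hCf.subset Set.inter_subset_left).isClosed_biUnion fun y hy => hy.2
  rw [hcl.closure_eq] at h
  exact (h.ge hx).2

variable [IsAlgClosed k] [IsIntegral Y]

/-- A morphism from a normal variety of dimension at least two sending an ample divisor to a closed point is
constant. -/
theorem eq_point_of_zeroScheme (pY : Y ⟶ Spec (CommRingCat.of k)) [IsProper pY] (hY : Pi1.IsNormalScheme Y) (hdim : (2 : WithBot ℕ∞) ≤ topologicalKrullDim Y)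
    {H : Y.Modules} (hH : CohB1.IsAmple H) (φ : Coh.structureModule Y ⟶ H) [Mono φ]
    {P : Scheme.{u}} (h : Y ⟶ P) {p₀ : P} (hp₀ : IsClosed ({p₀} : Set P))
    (hX : ∀ z ∈ Set.range (PicF2.zeroScheme H φ).subschemeι, h z = p₀) (y : Y) : h y = p₀ := by
  haveI : IsLocallyNoetherian Y := LocallyOfFiniteType.isLocallyNoetherian pY
  haveI := H22Alg.ESZInt.connectedSpace pY hdim hH φ
  obtain ⟨z₀⟩ := (inferInstance : Nonempty ↥(PicF2.zeroScheme H φ).subscheme)
  obtain ⟨U, hU, hpU, -⟩ := exists_isAffineOpen_mem_and_subset (X := P) (x := p₀) (U := ⊤) trivial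
  let W := h ⁻¹ᵁ U
  let g : Γ(H, ⊤) := SecTwist.val φ ⊤
  have hgen : IsAffineOpen (H11Ample.gen H g) := H17.GenAffine.isAffineOpen_gen pY hH g
  have hrg : Set.range (PicF2.zeroScheme H φ).subschemeι = (H11Ample.gen H g : Set Y)ᶜ :=
    H22Alg.ESZInt.range_zeroScheme hH.1 φ
  have hsub : (W : Set Y)ᶜ ⊆ H11Ample.gen H g := fun x hx => by
    by_contra hxg
    exact hx (show h x ∈ U by rw [hX x (hrg ▸ hxg)]; exact hpU)
  obtain ⟨-, hcl⟩ := finite_of_subset_affine pY W.isOpen.isClosed_compl hgen hsub
  have hbij : Function.Bijective ((Coh.structureModule Y).presheaf.map (homOfLE (le_top : W ≤ ⊤)).op) :=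
    H29Ref.bijective_res hY _ H29Ref.isRef1_structureModule.1 H29Ref.isRef1_structureModule.2.1 le_top
      fun x _ hxW => by rw [ringKrullDim_stalk_closed pY (hcl x hxW)]; exact hdim
  haveI := geometricallyIntegral_of_isAlgClosed pY
  have hk : Function.Bijective (fun c => Y.presheaf.map (homOfLE (le_top : W ≤ ⊤)).op (pY.appTop c)) :=
    hbij.comp (H25Rig.bijective_appTop pY)
  have hF : IsField Γ(W.toScheme, ⊤) := by
    have h1 : IsField Γ(Spec (CommRingCat.of k), ⊤) := MulEquiv.isField (Field.toIsField k)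
      (Scheme.ΓSpecIso (CommRingCat.of k)).commRingCatIsoToRingEquiv.toMulEquiv
    have h2 : IsField Γ(Y, W) := MulEquiv.isField h1
      (RingEquiv.ofBijective ((pY.appTop ≫ Y.presheaf.map (homOfLE (le_top : W ≤ ⊤)).op).hom) hk).symm.toMulEquiv
    exact MulEquiv.isField h2 W.topIso.commRingCatIsoToRingEquiv.toMulEquiv
  haveI : IsAffine (U : Scheme.{u}) := hU
  haveI : Subsingleton (PrimeSpectrum Γ(W.toScheme, ⊤)) := by
    letI := hF.toField
    infer_instance
  let hW : W.toScheme ⟶ U := h ∣_ U
  have key : ∀ a b : W.toScheme, hW a = hW b := fun a b => by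
    have hfac := Scheme.toSpecΓ_naturality hW
    have e : ∀ c, (U : Scheme.{u}).toSpecΓ (hW c) = Spec.map hW.appTop (W.toScheme.toSpecΓ c) := fun c => by
      rw [← Scheme.Hom.comp_apply, hfac, Scheme.Hom.comp_apply]
    have h2 : (U : Scheme.{u}).toSpecΓ (hW a) = (U : Scheme.{u}).toSpecΓ (hW b) := by
      rw [e, e]
      exact congrArg _ (Subsingleton.elim (α := PrimeSpectrum Γ(W.toScheme, ⊤)) _ _)
    exact (U : Scheme.{u}).toSpecΓ.homeomorph.injective h2
  have hz₀ : (PicF2.zeroScheme H φ).subschemeι z₀ ∈ W := show h _ ∈ U by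
    rw [hX _ ⟨z₀, rfl⟩]; exact hpU
  have hWp : (W : Set Y) ⊆ h ⁻¹' {p₀} := fun x hx => by
    have e := key ⟨x, hx⟩ ⟨_, hz₀⟩
    have e' := congrArg U.ι e
    rw [← Scheme.Hom.comp_apply, morphismRestrict_ι, ← Scheme.Hom.comp_apply, morphismRestrict_ι] at e'
    simp only [Scheme.Hom.comp_apply] at e'
    exact e'.trans (hX _ ⟨z₀, rfl⟩)
  have hη : genericPoint Y ∈ W := ((genericPoint_spec Y).specializes (Set.mem_univ _)).mem_open W.2 hz₀
  exact ((genericPoint_spec Y).specializes (Set.mem_univ y)).mem_closed (hp₀.preimage h.continuous) (hWp hη)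

end Groth.Agent.H12Pic.FinKer
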