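import Groth.Agent.H12Pic.FinKer.Slices
import Groth.Agent.H12Pic.FinKer.Ample
import Groth.Agent.H12Pic.PicCurve.Representable
import Groth.Agent.H06EGA15.SplitPoints

/-!
# A family of modules parametrized by a curve and trivial on an ample divisor is constant
-/

set_option autoImplicit false
set_option maxHeartbeats 1000000
set_option linter.style.haveILetI false
universe u

open CategoryTheory CategoryTheory.Limits AlgebraicGeometry Opposite TopologicalSpace
open Groth.Agent.H25Theta (pb pT pC pI tI)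

noncomputable section

namespace Groth.Agent.H12Pic.FinKer

variable {k : Type u} [Field k]

/-- Rational points are closed. -/
theorem isClosed_section_point {P : Scheme.{u}} (p : P ⟶ Spec (CommRingCat.of k))
    (s : Spec (CommRingCat.of k) ⟶ P) (hs : s ≫ p = 𝟙 _) :
    IsClosed ({s (IsLocalRing.closedPoint k)} : Set P) := by
  rw [(P.affineCover.isOpenCover_opensRange).isClosed_iff_coe_preimage]
  intro i
  let U := (P.affineCover.f i).opensRange
  haveI : IsAffine (U : Scheme.{u}) := isAffineOpen_opensRange _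
  by_cases h : s (IsLocalRing.closedPoint k) ∈ U
  · let s' : Spec (CommRingCat.of k) ⟶ U := IsOpenImmersion.lift U.ι s (by
      rw [Scheme.Opens.range_ι]
      rintro _ ⟨z, rfl⟩
      rwa [show z = IsLocalRing.closedPoint k from Subsingleton.elim (α := PrimeSpectrum k) _ _])
    have hs' : s' ≫ U.ι = s := IsOpenImmersion.lift_fac _ _ _
    haveI : IsClosedImmersion (s' ≫ U.ι ≫ p) := by rw [← Category.assoc, hs', hs]; infer_instance
    haveI : IsClosedImmersion s' := IsClosedImmersion.of_comp s' (U.ι ≫ p)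
    refine (congrArg IsClosed (Set.ext fun z => ?_)).mp s'.isClosedEmbedding.isClosed_range
    constructor
    · rintro ⟨a, rfl⟩
      show (U.ι (s' a)) = s (IsLocalRing.closedPoint k)
      rw [← Scheme.Hom.comp_apply, hs',
        show a = IsLocalRing.closedPoint k from Subsingleton.elim (α := PrimeSpectrum k) _ _]
    · intro hz
      refine ⟨IsLocalRing.closedPoint k, U.ι.isOpenEmbedding.injective ?_⟩
      rw [← Scheme.Hom.comp_apply, hs']
      exact (show U.ι z = s (IsLocalRing.closedPoint k) from hz).symm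
  · refine (congrArg IsClosed (Set.ext fun z => ?_)).mp isClosed_empty
    exact ⟨fun hz => hz.elim, fun hz => h ((show (z : P) = _ from hz) ▸ z.2)⟩

theorem isPreconnected_finite_subsingleton {X : Type*} [TopologicalSpace X] {S : Set X} (hS : IsPreconnected S)
    (hf : S.Finite) (hc : ∀ s ∈ S, IsClosed ({s} : Set X)) : S.Subsingleton := by
  intro a ha b hb
  by_contra hne
  have ho : IsClosed (S \ {a}) := by
    rw [← Set.biUnion_of_singleton (S \ {a})]
    exact (hf.subset Set.sdiff_subset).isClosed_biUnion fun s hs => hc s hs.1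
  obtain ⟨c, -, hca, hc'⟩ := isPreconnected_closed_iff.1 hS _ _ (hc a ha) ho
    (fun s hs => (em (s = a)).imp id fun h => ⟨hs, h⟩) ⟨a, ha, rfl⟩ ⟨b, hb, hb, Ne.symm hne⟩
  exact hc'.2 hca

variable [IsAlgClosed k] {Y : Scheme.{u}} (pY : Y ⟶ Spec (CommRingCat.of k)) [IsProper pY] [IsIntegral Y]
  {N : Scheme.{u}} (q : N ⟶ Spec (CommRingCat.of k))

/-- Invertible modules on `N × Y` trivial on the pieces of an ample divisor of the normal `Y` over a dense set
of points of the curve `N` have isomorphic slices. -/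
theorem slices_iso (hY : Pi1.IsNormalScheme Y) (hdim : (2 : WithBot ℕ∞) ≤ topologicalKrullDim Y)
    {H : Y.Modules} (hH : CohB1.IsAmple H) (φ : Coh.structureModule Y ⟶ H) [Mono φ]
    {ι : Type u} [Finite ι] (C : ι → Scheme.{u}) (c : ∀ i, C i ⟶ Y) [∀ i, IsClosedImmersion (c i)]
    [∀ i, IsIntegral (C i)] (hc : ∀ i, Set.range (c i) ⊆ Set.range (PicF2.zeroScheme H φ).subschemeι)
    (hcov : Set.range (PicF2.zeroScheme H φ).subschemeι ⊆ ⋃ i, Set.range (c i))
    (hN : Curve.IsSmoothProperCurve k N q) {M : (pullback q pY).Modules} (hM : PicF.IsInvertible M)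
    (T : N.Opens) (hT : (T : Set N).Nonempty)
    (htriv : ∀ i (t : Spec (CommRingCat.of k) ⟶ N) (ht : t ≫ q = 𝟙 _), t (IsLocalRing.closedPoint k) ∈ T →
      Nonempty ((Scheme.Modules.pullback (c i ≫ sl₁ q pY t ht)).obj M ≅ Coh.structureModule (C i)))
    (t t' : Spec (CommRingCat.of k) ⟶ N) (ht : t ≫ q = 𝟙 _) (ht' : t' ≫ q = 𝟙 _) :
    Nonempty ((Scheme.Modules.pullback (sl₁ q pY t ht)).obj M ≅
      (Scheme.Modules.pullback (sl₁ q pY t' ht')).obj M) := by
  haveI : IsProper q := hN.1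
  haveI : Smooth q := hN.2.1
  haveI : IsIntegral N := hN.2.2.1
  haveI : JacobsonSpace N := LocallyOfFiniteType.jacobsonSpace q
  haveI : JacobsonSpace Y := LocallyOfFiniteType.jacobsonSpace pY
  haveI := geometricallyIntegral_of_isAlgClosed q
  haveI := geometricallyIntegral_of_isAlgClosed pY
  haveI : Flat q := H28Def.flat_of_field q
  haveI : Flat pY := H28Def.flat_of_field pY
  haveI : IsLocallyNoetherian Y := LocallyOfFiniteType.isLocallyNoetherian pY
  haveI : LocallyOfFinitePresentation pY := inferInstance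
  -- normalise along a point of `T`
  obtain ⟨τ₀, hτT, hτc⟩ := nonempty_inter_closedPoints hT T.2.isLocallyClosed
  let σ := pointOfClosedPoint q τ₀ hτc
  have hσ : σ ≫ q = 𝟙 _ := pointOfClosedPoint_comp _ _ _
  let B := (Scheme.Modules.pullback (sl₁ q pY σ hσ)).obj M
  obtain ⟨A, hA, ⟨eA⟩⟩ := H11Sym.exists_inverse (L := B) (H11Ample.isInvertible_pullback _ hM)
  let N' := CohB1.tensorMod M (pb (pullback.snd q pY) A)
  have hN' : PicF.IsInvertible N' := H11Ample.isInvertible_tensor hM (H11Ample.isInvertible_pullback _ hA)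
  have hsl : ∀ (s : Spec (CommRingCat.of k) ⟶ N) (hs : s ≫ q = 𝟙 _),
      Nonempty ((Scheme.Modules.pullback (sl₁ q pY s hs)).obj N' ≅
        CohB1.tensorMod ((Scheme.Modules.pullback (sl₁ q pY s hs)).obj M) A) := fun s hs =>
    ⟨pT _ M _ ≪≫ tI (Iso.refl _) (pC _ _ (h := 𝟙 Y) (sl₁_snd s hs) A ≪≫ pI (𝟙 Y) rfl A)⟩
  let T₀ : Over (Spec (CommRingCat.of k)) := Over.mk pY
  have hsec : PicF.IsTrivialCl (PicF.pullCl (PicF.secT q σ hσ T₀) (PicF.cl N')) := by
    refine Quot.sound ⟨?_⟩
    exact (hsl σ hσ).some ≪≫ H10Coh.Tw.commIso B A ≪≫ eA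
  obtain ⟨P, ξ, hP⟩ := H12Pic.PicCurve.rigRepresentable_curve hN hσ
  obtain ⟨h, hh, -⟩ := hP T₀ ⟨PicF.cl N', ⟨N', rfl, hN'⟩, hsec⟩
  -- values at the rational points of `Y`
  have hpt : ∀ (a b : Spec (CommRingCat.of k) ⟶ Y) (ha : a ≫ pY = 𝟙 _) (hb : b ≫ pY = 𝟙 _),
      a ≫ h.left = b ≫ h.left ↔ Nonempty ((Scheme.Modules.pullback (sl₂ q pY a ha)).obj N' ≅
        (Scheme.Modules.pullback (sl₂ q pY b hb)).obj N') := by
    intro a b ha hb
    let T₁ : Over (Spec (CommRingCat.of k)) := Over.mk (𝟙 (Spec (CommRingCat.of k)))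
    let u : ∀ (a : Spec (CommRingCat.of k) ⟶ Y), a ≫ pY = 𝟙 _ → (T₁ ⟶ T₀) := fun a ha => Over.homMk a ha
    have hx : ∀ (a : Spec (CommRingCat.of k) ⟶ Y) (ha : a ≫ pY = 𝟙 _),
        PicF.pullCl (PicF.XTmap q (u a ha ≫ h)) ξ.1 =
          PicF.pullCl (pullback.fst q T₁.hom) (PicF.cl ((Scheme.Modules.pullback (sl₂ q pY a ha)).obj N')) := by
      intro a ha
      have e : PicF.XTmap q (u a ha) = pullback.fst q T₁.hom ≫ sl₂ q pY a ha := by
        apply pullback.hom_ext
        · show PicF.XTmap q (u a ha) ≫ pullback.fst q T₀.hom =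
            (pullback.fst q T₁.hom ≫ sl₂ q pY a ha) ≫ pullback.fst q pY
          rw [Category.assoc, sl₂_fst, H17.PullCl.XTmap_fst, Category.comp_id]
        · show PicF.XTmap q (u a ha) ≫ pullback.snd q T₀.hom =
            (pullback.fst q T₁.hom ≫ sl₂ q pY a ha) ≫ pullback.snd q pY
          rw [Category.assoc, sl₂_snd, H17.PullCl.XTmap_snd, pullback.condition_assoc]
          exact congrArg (pullback.snd q T₁.hom ≫ ·) (Category.id_comp a).symm
      rw [H12Pic.Sep.XTmap_comp, H17.PullCl.pullCl_comp, hh, e, H17.PullCl.pullCl_comp]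
      rfl
    haveI : IsIso (pullback.fst q T₁.hom) := by
      haveI : IsIso T₁.hom := inferInstanceAs (IsIso (𝟙 _))
      infer_instance
    constructor
    · intro e
      refine H12Pic.Sep.iso_of_cl_eq (H12Pic.Sep.pullCl_injective (pullback.fst q T₁.hom) ?_)
      rw [← hx a ha, ← hx b hb, show u a ha ≫ h = u b hb ≫ h from Over.OverMorphism.ext e]
    · rintro ⟨e⟩
      have hc : PicF.pullCl (PicF.XTmap q (u a ha ≫ h)) ξ.1 = PicF.pullCl (PicF.XTmap q (u b hb ≫ h)) ξ.1 := by
        rw [hx a ha, hx b hb, show PicF.cl ((Scheme.Modules.pullback (sl₂ q pY a ha)).obj N') =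
          PicF.cl ((Scheme.Modules.pullback (sl₂ q pY b hb)).obj N') from Quot.sound ⟨e⟩]
      exact congrArg (fun g : T₁ ⟶ P => g.left) ((hP T₁ (RigPoints.rigPull q hσ (u b hb ≫ h) ξ)).unique hc rfl)
  have hdenseT : Dense ((T : Set N) ∩ closedPoints N) := by
    rw [dense_iff_closure_eq]
    refine (JacobsonSpace.closure_inter_closedPoints_eq_closure T.2.isLocallyClosed).trans ?_
    exact (T.2.dense hT).closure_eq
  -- constant on each piece of the divisor
  have hpiece : ∀ i, ∃ p : P.left, IsClosed ({p} : Set P.left) ∧ ∀ z, h.left (c i z) = p := by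
    intro i
    let pC' : C i ⟶ Spec (CommRingCat.of k) := c i ≫ pY
    haveI : IsProper pC' := inferInstanceAs (IsProper (c i ≫ pY))
    haveI := geometricallyIntegral_of_isAlgClosed pC'
    haveI : Flat pC' := H28Def.flat_of_field pC'
    haveI : LocallyOfFinitePresentation pC' := inferInstance
    haveI : JacobsonSpace (C i) := LocallyOfFiniteType.jacobsonSpace pC'
    let j : pullback q pC' ⟶ pullback q pY := pullback.map q pC' q pY (𝟙 N) (c i) (𝟙 _) (by simp) (by simp [pC'])
    obtain ⟨R, hR, ⟨eR⟩⟩ := exists_from_base (pullback.fst q pC') (H11Ample.isInvertible_pullback j hN') _ hdenseT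
      fun s hs => by
        let t := pointOfClosedPoint q s hs.2
        have ht : t ≫ q = 𝟙 _ := pointOfClosedPoint_comp _ _ _
        have hts : t (IsLocalRing.closedPoint k) = s := pointOfClosedPoint_apply _ _ _ _
        obtain ⟨e₁⟩ := htriv i t ht (by rw [hts]; exact hs.1)
        obtain ⟨e₀⟩ := htriv i σ hσ (by
          rw [show σ (IsLocalRing.closedPoint k) = τ₀ from pointOfClosedPoint_apply _ _ _ _]; exact hτT)
        rw [← hts]
        refine (fiberMod_trivial_iff _ q t ht (isPullback_sl₁ t ht) _).2 ⟨?_⟩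
        have hj : sl₁ q pC' t ht ≫ j = c i ≫ sl₁ q pY t ht := by
          apply pullback.hom_ext
          · rw [Category.assoc, Category.assoc, sl₁_fst, show j ≫ pullback.fst q pY = _ from pullback.lift_fst _ _ _,
              Category.comp_id, sl₁_fst]
            exact Category.assoc _ _ _
          · rw [Category.assoc, Category.assoc, sl₁_snd, show j ≫ pullback.snd q pY = _ from pullback.lift_snd _ _ _,
              ← Category.assoc, sl₁_snd, Category.id_comp, Category.comp_id]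
        exact pC (sl₁ q pC' t ht) j hj N' ≪≫ (pC (c i) (sl₁ q pY t ht) rfl N').symm ≪≫
          (Scheme.Modules.pullback (c i)).mapIso (hsl t ht).some ≪≫ pT (c i) _ A ≪≫
          tI (pC (c i) (sl₁ q pY t ht) rfl M ≪≫ e₁) (Iso.refl _) ≪≫ tI e₀.symm (Iso.refl _) ≪≫
          tI (pC (c i) (sl₁ q pY σ hσ) rfl M).symm (Iso.refl _) ≪≫ (pT (c i) B A).symm ≪≫
          (Scheme.Modules.pullback (c i)).mapIso (H10Coh.Tw.commIso B A ≪≫ eA) ≪≫ PicLoc.pullbackStructureIso (c i)
    obtain ⟨z₁, -, hz₁⟩ := nonempty_inter_closedPoints (X := C i) (Z := Set.univ) Set.univ_nonempty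
      isClosed_univ.isLocallyClosed
    let a₁ := pointOfClosedPoint pC' z₁ hz₁
    have ha₁ : a₁ ≫ pC' = 𝟙 _ := pointOfClosedPoint_comp _ _ _
    have ha₁' : (a₁ ≫ c i) ≫ pY = 𝟙 _ := by rw [Category.assoc]; exact ha₁
    have hval : ∀ (a : Spec (CommRingCat.of k) ⟶ C i) (ha : a ≫ pC' = 𝟙 _) (ha' : (a ≫ c i) ≫ pY = 𝟙 _),
        Nonempty ((Scheme.Modules.pullback (sl₂ q pY (a ≫ c i) ha')).obj N' ≅ R) := fun a ha ha' => by
      have hj : sl₂ q pC' a ha ≫ j = sl₂ q pY (a ≫ c i) ha' := by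
        apply pullback.hom_ext
        · rw [Category.assoc, show j ≫ pullback.fst q pY = _ from pullback.lift_fst _ _ _, Category.comp_id,
            sl₂_fst, sl₂_fst]
        · rw [Category.assoc, show j ≫ pullback.snd q pY = _ from pullback.lift_snd _ _ _, sl₂_snd_assoc, sl₂_snd]
      exact ⟨(pC (sl₂ q pC' a ha) j hj N').symm ≪≫ (Scheme.Modules.pullback _).mapIso eR.symm ≪≫
        pC _ _ (h := 𝟙 N) (sl₂_fst a ha) R ≪≫ pI (𝟙 N) rfl R⟩
    let p := (a₁ ≫ c i ≫ h.left) (IsLocalRing.closedPoint k)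
    have hp : IsClosed ({p} : Set P.left) := isClosed_section_point P.hom _ (by
      rw [Category.assoc, Category.assoc, Over.w h]; exact ha₁)
    refine ⟨p, hp, fun z => ?_⟩
    have hsub : closedPoints (C i) ⊆ (c i ≫ h.left) ⁻¹' {p} := fun w hw => by
      let a := pointOfClosedPoint pC' w hw
      have ha : a ≫ pC' = 𝟙 _ := pointOfClosedPoint_comp _ _ _
      have ha' : (a ≫ c i) ≫ pY = 𝟙 _ := by rw [Category.assoc]; exact ha
      have heq := (hpt _ _ ha' ha₁').2 ⟨(hval a ha ha').some ≪≫ (hval a₁ ha₁ ha₁').some.symm⟩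
      show (c i ≫ h.left) w = p
      rw [← pointOfClosedPoint_apply pC' w hw (IsLocalRing.closedPoint k)]
      simp only [Category.assoc] at heq
      exact congrArg (fun φ : Spec (CommRingCat.of k) ⟶ P.left => φ (IsLocalRing.closedPoint k)) heq
    have := closure_minimal hsub (hp.preimage (c i ≫ h.left).continuous)
    rw [closure_closedPoints] at this
    exact this (Set.mem_univ z)
  choose p hpc hp using hpiece
  -- the divisor is connected
  haveI := H22Alg.ESZInt.connectedSpace pY hdim hH φ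
  let Z := (PicF2.zeroScheme H φ).subscheme
  let ζ := (PicF2.zeroScheme H φ).subschemeι
  have hsubp : (h.left.base '' Set.range ζ) ⊆ Set.range p := by
    rintro _ ⟨y, hy, rfl⟩
    obtain ⟨i, z, rfl⟩ := Set.mem_iUnion.1 (hcov hy)
    exact ⟨i, (hp i z).symm⟩
  have hss : (h.left.base '' Set.range ζ).Subsingleton := isPreconnected_finite_subsingleton
    ((isPreconnected_range ζ.continuous).image _ h.left.continuous.continuousOn)
    ((Set.finite_range p).subset hsubp) fun s hs => by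
      obtain ⟨i, rfl⟩ := hsubp hs
      exact hpc i
  obtain ⟨z₀⟩ := (inferInstance : Nonempty Z)
  obtain ⟨i₀, hi₀⟩ := hsubp ⟨ζ z₀, ⟨z₀, rfl⟩, rfl⟩
  have hall : ∀ y, h.left y = h.left (ζ z₀) := eq_point_of_zeroScheme pY hY hdim hH φ h.left
    (p₀ := h.left (ζ z₀)) (hi₀ ▸ hpc i₀) fun z hz => hss ⟨z, hz, rfl⟩ ⟨ζ z₀, ⟨z₀, rfl⟩, rfl⟩
  -- all slices over rational points of `Y` agree
  obtain ⟨y₀, -, hy₀⟩ := nonempty_inter_closedPoints (X := Y) (Z := Set.univ) Set.univ_nonempty
    isClosed_univ.isLocallyClosed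
  let a₀ := pointOfClosedPoint pY y₀ hy₀
  have ha₀ : a₀ ≫ pY = 𝟙 _ := pointOfClosedPoint_comp _ _ _
  have hconst : ∀ (a : Spec (CommRingCat.of k) ⟶ Y) (ha : a ≫ pY = 𝟙 _),
      Nonempty ((Scheme.Modules.pullback (sl₂ q pY a ha)).obj N' ≅
        (Scheme.Modules.pullback (sl₂ q pY a₀ ha₀)).obj N') := fun a ha => by
    refine (hpt a a₀ ha ha₀).1 (H06EGA15.section_ext P.hom _ _ (by rw [Category.assoc, Over.w h]; exact ha)
      (by rw [Category.assoc, Over.w h]; exact ha₀) ?_)
    simp only [Scheme.Hom.comp_apply]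
    exact (hall _).trans (hall _).symm
  let P' := (Scheme.Modules.pullback (sl₂ q pY a₀ ha₀)).obj N'
  obtain ⟨P'', hP'', ⟨eP⟩⟩ := H11Sym.exists_inverse (L := P') (H11Ample.isInvertible_pullback _ hN')
  let R' := CohB1.tensorMod N' (pb (pullback.fst q pY) P'')
  have hdenseY : Dense (closedPoints Y) := dense_iff_closure_eq.2 closure_closedPoints
  obtain ⟨Q, hQ, ⟨eQ⟩⟩ := exists_from_base (pullback.snd q pY)
    (L := R') (H11Ample.isInvertible_tensor hN' (H11Ample.isInvertible_pullback _ hP'')) _ hdenseY fun s hs => by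
      let a := pointOfClosedPoint pY s hs
      have ha : a ≫ pY = 𝟙 _ := pointOfClosedPoint_comp _ _ _
      rw [← pointOfClosedPoint_apply pY s hs (IsLocalRing.closedPoint k)]
      refine (fiberMod_trivial_iff _ pY a ha (isPullback_sl₂ a ha) _).2 ⟨?_⟩
      exact pT _ N' _ ≪≫ tI (hconst a ha).some (pC _ _ (h := 𝟙 N) (sl₂_fst a ha) P'' ≪≫ pI (𝟙 N) rfl P'') ≪≫
        H10Coh.Tw.commIso P' P'' ≪≫ eP
  have hfin : ∀ (s : Spec (CommRingCat.of k) ⟶ N) (hs : s ≫ q = 𝟙 _),
      Nonempty (CohB1.tensorMod ((Scheme.Modules.pullback (sl₁ q pY s hs)).obj M) A ≅ Q) := fun s hs => by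
    obtain ⟨e₁⟩ := H12Pic.nonempty_iso_of_field (H11Ample.isInvertible_pullback s hP'')
    let e₁' : (Scheme.Modules.pullback s).obj P'' ≅ Coh.structureModule (Spec (CommRingCat.of k)) := e₁
    let e₂ : pb (sl₁ q pY s hs) (pb (pullback.fst q pY) P'') ≅ Coh.structureModule Y :=
      pC _ _ (sl₁_fst s hs) P'' ≪≫ (pC pY s rfl P'').symm ≪≫ (Scheme.Modules.pullback pY).mapIso e₁' ≪≫
        PicLoc.pullbackStructureIso pY
    exact ⟨(hsl s hs).some.symm ≪≫ (H10Coh.Tw.rightUnitIso _).symm ≪≫ tI (Iso.refl _) e₂.symm ≪≫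
      (pT _ N' _).symm ≪≫ (Scheme.Modules.pullback (sl₁ q pY s hs)).mapIso eQ.symm ≪≫
      pC _ _ (h := 𝟙 Y) (sl₁_snd s hs) Q ≪≫ pI (𝟙 Y) rfl Q⟩
  exact H25Theta.cancel_right hA ⟨(hfin t ht).some ≪≫ (hfin t' ht').some.symm⟩

end Groth.Agent.H12Pic.FinKer
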