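import Groth.Agent.H12Pic.SectionCurve

/-!
# A closed relation containing all curves relates all rational points of an irreducible closed set
-/

set_option autoImplicit false
set_option maxHeartbeats 800000
set_option linter.style.haveILetI false
universe u

open CategoryTheory CategoryTheory.Limits AlgebraicGeometry TopologicalSpace
open Groth.Agent.H8Props.FieldDim

namespace Groth.Agent.H12Pic.FinKer

variable {k : Type u} [Field k] {T : Scheme.{u}} (f : T ⟶ Spec (CommRingCat.of k))

/-- Let `E t` be closed sets indexed by the closed points; if each closed irreducible set of dimension at most one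
lies in `E t` for each closed point `t` of it, then so does each closed irreducible set. -/
theorem mem_of_curves [LocallyOfFiniteType f] [QuasiCompact f] (E : T → Set T) (hE : ∀ t, IsClosed (E t))
    (hcurve : ∀ w t : T, w ⤳ t → IsClosed ({t} : Set T) → cdim w ≤ 1 → w ∈ E t) (w t : T) (hwt : w ⤳ t)
    (htc : IsClosed ({t} : Set T)) : w ∈ E t := by
  haveI : IsLocallyNoetherian T := LocallyOfFiniteType.isLocallyNoetherian f
  haveI : CompactSpace T := QuasiCompact.compactSpace_of_compactSpace f
  haveI : IsNoetherian T := {}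
  suffices H : ∀ C : Closeds T, ∀ w, (C : Set T) = closure {w} → w ⤳ t → w ∈ E t from
    H ⟨closure {w}, isClosed_closure⟩ w rfl hwt
  intro C
  induction C using WellFoundedLT.induction with
  | _ C ih =>
    intro w hC hwt
    by_cases hw1 : cdim w ≤ 1
    · exact hcurve w t hwt htc hw1
    by_contra hwE
    obtain ⟨W, hW, htW, -⟩ := exists_isAffineOpen_mem_and_subset (X := T) (x := t) (U := ⊤) trivial
    obtain ⟨p, hp⟩ : w ∈ Set.range hW.fromSpec := by rw [hW.range_fromSpec]; exact hwt.mem_open W.2 htW
    obtain ⟨q, hq⟩ : t ∈ Set.range hW.fromSpec := by rw [hW.range_fromSpec]; exact htW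
    subst hp hq
    have hpq : p.asIdeal ≤ q.asIdeal :=
      (PrimeSpectrum.le_iff_specializes p q).2 (hW.fromSpec.isOpenEmbedding.isInducing.specializes_iff.1 hwt)
    haveI hqm : q.asIdeal.IsMaximal := by
      refine (PrimeSpectrum.isClosed_singleton_iff_isMaximal q).1 ?_
      have h := htc.preimage hW.fromSpec.continuous
      rwa [← Set.image_singleton, hW.fromSpec.isOpenEmbedding.injective.preimage_image] at h
    obtain ⟨I, hI⟩ := (PrimeSpectrum.isClosed_iff_zeroLocus_ideal _).1
      ((hE (hW.fromSpec q)).preimage hW.fromSpec.continuous)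
    obtain ⟨c, hcI, hcp⟩ : ∃ c ∈ I, c ∉ p.asIdeal := by
      by_contra h
      push Not at h
      exact hwE (hI.ge (show p ∈ PrimeSpectrum.zeroLocus (I : Set Γ(T, W)) from fun x hx => h x hx))
    obtain ⟨alg, hj⟩ := exists_algebra_chart f (A := Γ(T, W)) hW.fromSpec
    haveI := finiteType_of_chart f (A := Γ(T, W)) hW.fromSpec hj
    haveI : IsNoetherianRing Γ(T, W) := Algebra.FiniteType.isNoetherianRing k _
    let B := Γ(T, W) ⧸ p.asIdeal
    let π : Γ(T, W) →+* B := Ideal.Quotient.mk p.asIdeal
    let m : PrimeSpectrum B := ⟨q.asIdeal.map π, Ideal.map_isPrime_of_surjective Ideal.Quotient.mk_surjective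
      (by rw [Ideal.mk_ker]; exact hpq)⟩
    have hcomap : m.asIdeal.comap π = q.asIdeal := by
      show (q.asIdeal.map π).comap π = q.asIdeal
      rw [Ideal.comap_map_of_surjective π Ideal.Quotient.mk_surjective, ← RingHom.ker_eq_comap_bot, Ideal.mk_ker,
        sup_eq_left]
      exact hpq
    haveI : m.asIdeal.IsMaximal := by
      refine (Ideal.map_eq_top_or_isMaximal_of_surjective π Ideal.Quotient.mk_surjective hqm).resolve_left fun h => ?_
      exact m.2.ne_top h
    have hh : 2 ≤ m.asIdeal.height := by
      have h2 := height_add_dim_quotient_eq_iSup (k := k) B m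
      letI := Ideal.Quotient.field m.asIdeal
      rw [ringKrullDim_eq_zero_of_isField (Field.toIsField (B ⧸ m.asIdeal)), add_zero] at h2
      have h3 : (2 : WithBot ℕ∞) ≤ (m.asIdeal.height : WithBot ℕ∞) := by
        rw [h2]
        refine le_iSup_of_le ⟨⟨⊥, Ideal.isPrime_bot⟩, bot_le (a := m.asIdeal)⟩ ?_
        refine le_trans ?_ (ringKrullDim_eq_of_ringEquiv (RingEquiv.quotientBot B)).ge
        erw [← cdim_eq_chart f (A := Γ(T, W)) hW.fromSpec p]
        obtain ⟨n, hn⟩ := exists_nat_cdim f (hW.fromSpec p)
        rw [hn] at hw1 ⊢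
        have : 2 ≤ n := by
          by_contra h
          exact hw1 (by exact_mod_cast (show n ≤ 1 by omega))
        exact_mod_cast this
      exact WithBot.coe_le_coe.1 h3
    have hc0 : π c ≠ 0 := fun h => hcp (Ideal.Quotient.eq_zero_iff_mem.1 h)
    obtain ⟨r, hr, hr0, hrm, hcr⟩ := H12Pic.SectionCurve.exists_prime_notMem m.asIdeal hh hc0
    let v : PrimeSpectrum Γ(T, W) := ⟨r.comap π, hr.comap π⟩
    have hpv : p.asIdeal ≤ v.asIdeal := fun a ha => by
      show π a ∈ r
      rw [show π a = 0 from Ideal.Quotient.eq_zero_iff_mem.2 ha]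
      exact r.zero_mem
    have hwv : hW.fromSpec p ⤳ hW.fromSpec v :=
      ((PrimeSpectrum.le_iff_specializes p v).1 hpv).map hW.fromSpec.continuous
    have hvE := ih ⟨closure {hW.fromSpec v}, isClosed_closure⟩ (lt_of_le_of_ne ?_ fun h => hr0 ?_) (hW.fromSpec v) rfl
      (((PrimeSpectrum.le_iff_specializes v q).1 ((Ideal.comap_mono hrm).trans hcomap.le)).map
        hW.fromSpec.continuous)
    · exact hcr (hI.le hvE hcI)
    · show closure ({hW.fromSpec v} : Set T) ⊆ C
      rw [hC]
      exact closure_minimal (Set.singleton_subset_iff.2 hwv.mem_closure) isClosed_closure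
    · have h' : closure ({hW.fromSpec v} : Set T) = closure {hW.fromSpec p} :=
        (congrArg (fun D : Closeds T => (D : Set T)) h).trans hC
      have h'' : hW.fromSpec v = hW.fromSpec p :=
        ((specializes_iff_mem_closure.2 (h'.ge (subset_closure rfl))).antisymm hwv).eq
      have h''' : r.comap π = p.asIdeal :=
        congrArg PrimeSpectrum.asIdeal (hW.fromSpec.isOpenEmbedding.injective h'')
      rw [← Ideal.map_comap_of_surjective π Ideal.Quotient.mk_surjective r, h''', Ideal.map_quotient_self]

end Groth.Agent.H12Pic.FinKer
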