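import Groth.Agent.H12Pic.FinKer.Classify
import Groth.Agent.H12Pic.FinKer.Induct
import Groth.Agent.H12Pic.FinKer.CurveProd
import Groth.Agent.H22Alg.CurveCompact
import Groth.Agent.H7Flat.Flatten.Nagata
import Groth.Agent.H22Alg.NefBundle
import Groth.Agent.H28Bertini.Regular

/-!
# Families of modules trivial on an ample divisor are constant on irreducible bases
-/

set_option autoImplicit false
set_option maxHeartbeats 1000000
set_option linter.style.haveILetI false
universe u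

open CategoryTheory CategoryTheory.Limits AlgebraicGeometry Opposite TopologicalSpace
open Groth.Agent.H25Theta (pb pT pC pI tI)
open Groth.Agent.H8Props.FieldDim (cdim)

noncomputable section

namespace Groth.Agent.H12Pic.FinKer

variable {k : Type u} [Field k] [IsAlgClosed k]

theorem sl₁_symm {X Y : Scheme.{u}} {f : X ⟶ Spec (CommRingCat.of k)} {g : Y ⟶ Spec (CommRingCat.of k)}
    (t : Spec (CommRingCat.of k) ⟶ X) (ht : t ≫ f = 𝟙 _) :
    sl₁ f g t ht ≫ (pullbackSymmetry f g).hom = sl₂ g f t ht := by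
  apply pullback.hom_ext
  · rw [Category.assoc, pullbackSymmetry_hom_comp_fst, sl₁_snd, sl₂_fst]
  · rw [Category.assoc, pullbackSymmetry_hom_comp_snd, sl₁_fst, sl₂_snd]

variable {Y : Scheme.{u}} (pY : Y ⟶ Spec (CommRingCat.of k)) [IsProper pY] [IsIntegral Y]

/-- Along a one dimensional irreducible closed subset of the base the slices do not change. -/
theorem slices_iso_curve (hY : Pi1.IsNormalScheme Y) (hdim : (2 : WithBot ℕ∞) ≤ topologicalKrullDim Y)
    {H : Y.Modules} (hH : CohB1.IsAmple H) (φ : Coh.structureModule Y ⟶ H) [Mono φ]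
    {ι : Type u} [Finite ι] (C : ι → Scheme.{u}) (c : ∀ i, C i ⟶ Y) [∀ i, IsClosedImmersion (c i)]
    [∀ i, IsIntegral (C i)] (hc : ∀ i, Set.range (c i) ⊆ Set.range (PicF2.zeroScheme H φ).subschemeι)
    (hcov : Set.range (PicF2.zeroScheme H φ).subschemeι ⊆ ⋃ i, Set.range (c i))
    {T : Scheme.{u}} (qT : T ⟶ Spec (CommRingCat.of k)) [LocallyOfFiniteType qT]
    {M : (pullback pY qT).Modules} (hM : PicF.IsInvertible M)
    (htriv : ∀ i (t : Spec (CommRingCat.of k) ⟶ T) (ht : t ≫ qT = 𝟙 _),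
      Nonempty ((Scheme.Modules.pullback (c i ≫ sl₂ pY qT t ht)).obj M ≅ Coh.structureModule (C i)))
    {W : T.Opens} (hW : IsAffineOpen W) (w : T) (hwW : w ∈ W) (hw : cdim w = 1)
    (a b : Spec (CommRingCat.of k) ⟶ T) (ha : a ≫ qT = 𝟙 _) (hb : b ≫ qT = 𝟙 _)
    (haW : a (IsLocalRing.closedPoint k) ∈ W) (hbW : b (IsLocalRing.closedPoint k) ∈ W)
    (hwa : w ⤳ a (IsLocalRing.closedPoint k)) (hwb : w ⤳ b (IsLocalRing.closedPoint k)) :
    Nonempty ((Scheme.Modules.pullback (sl₂ pY qT a ha)).obj M ≅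
      (Scheme.Modules.pullback (sl₂ pY qT b hb)).obj M) := by
  haveI : IsAffine (W : Scheme.{u}) := hW
  let qW : (W : Scheme.{u}) ⟶ Spec (CommRingCat.of k) := W.ι ≫ qT
  obtain ⟨P, j, pP, hjo, -, hp, hjp⟩ := H7Flat.Flatten.exists_compactification_of_isAffine qW
  haveI := hjo
  haveI := hp
  let w' : (W : Scheme.{u}) := ⟨w, hwW⟩
  have hcd : cdim (j w') = 1 := by
    rw [H22Alg.CurveCompact.cdim_map k qW pP j hjp, ← H22Alg.CurveCompact.cdim_map k qW qT W.ι rfl]
    exact hw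
  let J := Scheme.IdealSheafData.vanishingIdeal (H22Alg.DevLength.cl (j w'))
  haveI : IsIntegral J.subscheme := H22Alg.isIntegral_vanishingIdeal_closure (j w')
  letI : J.subscheme.Over (Spec (CommRingCat.of k)) := ⟨J.subschemeι ≫ pP⟩
  haveI : IsProper (J.subscheme ↘ Spec (CommRingCat.of k)) := inferInstanceAs (IsProper (J.subschemeι ≫ pP))
  have hJd : topologicalKrullDim J.subscheme = 1 := by
    rw [← hcd, J.subschemeι.isClosedEmbedding.isEmbedding.toHomeomorph.isHomeomorph.topologicalKrullDim_eq,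
      H17.range_vanishingIdeal_subschemeι]
    rfl
  obtain ⟨N, hNi, ν, hνp, hNd, hreg, hgen, -⟩ :=
    H22Alg.NefBundle.exists_regular_curve_over k hJd (𝟙 J.subscheme) (Category.id_comp _)
  haveI := hNi
  let qN : N ⟶ Spec (CommRingCat.of k) := ν ≫ (J.subscheme ↘ Spec (CommRingCat.of k))
  haveI : IsProper qN := hνp
  haveI : Smooth qN := H28Bertini.smooth_of_regular qN hreg
  haveI : IsProper ν := IsProper.of_comp ν (J.subscheme ↘ Spec (CommRingCat.of k))
  rw [Category.comp_id] at hgen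
  have hsurj : ∀ z, ∃ n, ν n = z := fun z =>
    (((genericPoint_spec J.subscheme).specializes (Set.mem_univ z)).mem_closed ν.isClosedMap.isClosed_range
      ⟨_, hgen⟩ : z ∈ Set.range ν)
  let r := ν ≫ J.subschemeι
  let T' : N.Opens := r ⁻¹ᵁ j.opensRange
  let l : (T' : Scheme.{u}) ⟶ (W : Scheme.{u}) := IsOpenImmersion.lift j (T'.ι ≫ r) (by
    rintro _ ⟨x, rfl⟩
    exact x.2)
  have hl : l ≫ j = T'.ι ≫ r := IsOpenImmersion.lift_fac _ _ _
  have hrq : r ≫ pP = qN := Category.assoc _ _ _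
  have hlq : (l ≫ W.ι) ≫ qT = T'.ι ≫ qN := by
    rw [Category.assoc, ← hrq, ← Category.assoc T'.ι, ← hl, Category.assoc, hjp]
  let U := pullback.snd pY qN ⁻¹ᵁ T'
  let s : (U : Scheme.{u}) ⟶ (T' : Scheme.{u}) := IsOpenImmersion.lift T'.ι (U.ι ≫ pullback.snd pY qN) (by
    rw [Scheme.Opens.range_ι]
    rintro _ ⟨x, rfl⟩
    exact x.2)
  have hs : s ≫ T'.ι = U.ι ≫ pullback.snd pY qN := IsOpenImmersion.lift_fac _ _ _
  let g : (U : Scheme.{u}) ⟶ pullback pY qT := pullback.lift (U.ι ≫ pullback.fst pY qN) (s ≫ l ≫ W.ι) (by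
    rw [Category.assoc, pullback.condition, ← Category.assoc U.ι, ← hs, Category.assoc, Category.assoc, ← hlq])
  obtain ⟨z₁, hz₁⟩ : ∃ z, J.subschemeι z = j (⟨_, haW⟩ : (W : Scheme.{u})) := by
    show j _ ∈ Set.range J.subschemeι
    rw [H17.range_vanishingIdeal_subschemeι]
    exact ((show w' ⤳ ⟨_, haW⟩ from W.ι.isOpenEmbedding.isInducing.specializes_iff.1 hwa).map
      j.continuous).mem_closure
  obtain ⟨n₁, hn₁⟩ := hsurj z₁
  have hTne : (T' : Set N).Nonempty := ⟨n₁, show r n₁ ∈ j.opensRange from ⟨⟨_, haW⟩, by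
    rw [Scheme.Hom.comp_apply, hn₁, hz₁]⟩⟩
  obtain ⟨L, hL, ⟨eL⟩⟩ := exists_curve_extension pY qN hY hNd.le T' hTne
    ((Scheme.Modules.pullback g).obj M) (H11Ample.isInvertible_pullback g hM)
  let σ := pullbackSymmetry qN pY
  let M' := (Scheme.Modules.pullback σ.hom).obj L
  have hM' : PicF.IsInvertible M' := H11Ample.isInvertible_pullback _ hL
  have hpts : ∀ (n : Spec (CommRingCat.of k) ⟶ N) (hn : n ≫ qN = 𝟙 _),
      n (IsLocalRing.closedPoint k) ∈ T' → ∃ (t : Spec (CommRingCat.of k) ⟶ T) (ht : t ≫ qT = 𝟙 _),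
        (∃ w₁ : (W : Scheme.{u}), W.ι w₁ = t (IsLocalRing.closedPoint k) ∧
          j w₁ = r (n (IsLocalRing.closedPoint k))) ∧
        Nonempty ((Scheme.Modules.pullback (sl₁ qN pY n hn)).obj M' ≅
          (Scheme.Modules.pullback (sl₂ pY qT t ht)).obj M) := by
    intro n hn hnT
    let n' : Spec (CommRingCat.of k) ⟶ T' := IsOpenImmersion.lift T'.ι n (by
      rw [Scheme.Opens.range_ι]
      rintro _ ⟨x, rfl⟩
      rwa [show x = IsLocalRing.closedPoint k from Subsingleton.elim (α := PrimeSpectrum k) _ _])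
    have hn' : n' ≫ T'.ι = n := IsOpenImmersion.lift_fac _ _ _
    let t := n' ≫ l ≫ W.ι
    have ht : t ≫ qT = 𝟙 _ := by
      show (n' ≫ l ≫ W.ι) ≫ qT = _
      rw [Category.assoc, hlq, ← Category.assoc, hn', hn]
    refine ⟨t, ht, ⟨(n' ≫ l) (IsLocalRing.closedPoint k), ?_, ?_⟩, ⟨?_⟩⟩
    · rw [← Scheme.Hom.comp_apply, Category.assoc]
    · rw [← Scheme.Hom.comp_apply, Category.assoc, hl, ← Category.assoc, hn', Scheme.Hom.comp_apply]
    have hsl : ∀ x : Y, sl₂ pY qN n hn x ∈ U := fun x => by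
      show pullback.snd pY qN (sl₂ pY qN n hn x) ∈ T'
      rw [← Scheme.Hom.comp_apply, sl₂_snd, Scheme.Hom.comp_apply,
        show pY x = IsLocalRing.closedPoint k from Subsingleton.elim (α := PrimeSpectrum k) _ _]
      exact hnT
    let v : Y ⟶ U := IsOpenImmersion.lift U.ι (sl₂ pY qN n hn) (by
      rw [Scheme.Opens.range_ι]
      rintro _ ⟨x, rfl⟩
      exact hsl x)
    have hv : v ≫ U.ι = sl₂ pY qN n hn := IsOpenImmersion.lift_fac _ _ _
    have hvs : v ≫ s = pY ≫ n' := by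
      rw [← cancel_mono T'.ι, Category.assoc, hs, ← Category.assoc, hv, sl₂_snd, Category.assoc, hn']
    have hvg : v ≫ g = sl₂ pY qT t ht := by
      apply pullback.hom_ext
      · rw [Category.assoc, pullback.lift_fst, ← Category.assoc, hv, sl₂_fst, sl₂_fst]
      · rw [Category.assoc, pullback.lift_snd, ← Category.assoc, hvs, sl₂_snd]
        exact Category.assoc _ _ _
    exact pC _ _ (sl₁_symm n hn) L ≪≫ (pC v U.ι hv L).symm ≪≫
      (Scheme.Modules.pullback v).mapIso
        (((Scheme.Modules.restrictFunctorIsoPullback U.ι).app L).symm ≪≫ eL) ≪≫ pC v g hvg M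
  have hcurve : Curve.IsSmoothProperCurve k N qN := ⟨inferInstance, inferInstance, inferInstance, hNd⟩
  haveI : JacobsonSpace N := LocallyOfFiniteType.jacobsonSpace qN
  have hlift : ∀ (e : Spec (CommRingCat.of k) ⟶ T) (he : e ≫ qT = 𝟙 _) (heW : e (IsLocalRing.closedPoint k) ∈ W),
      w ⤳ e (IsLocalRing.closedPoint k) → ∃ (n : Spec (CommRingCat.of k) ⟶ N) (hn : n ≫ qN = 𝟙 _),
        Nonempty ((Scheme.Modules.pullback (sl₁ qN pY n hn)).obj M' ≅
          (Scheme.Modules.pullback (sl₂ pY qT e he)).obj M) := by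
    intro e he heW hwe
    let e' : (W : Scheme.{u}) := ⟨_, heW⟩
    obtain ⟨z, hz⟩ : ∃ z, J.subschemeι z = j e' := by
      show j e' ∈ Set.range J.subschemeι
      rw [H17.range_vanishingIdeal_subschemeι]
      exact ((show w' ⤳ e' from W.ι.isOpenEmbedding.isInducing.specializes_iff.1 hwe).map
        j.continuous).mem_closure
    have hje : IsClosed ({j e'} : Set P) := by
      let e₁ : Spec (CommRingCat.of k) ⟶ W := IsOpenImmersion.lift W.ι e (by
        rw [Scheme.Opens.range_ι]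
        rintro _ ⟨x, rfl⟩
        rwa [show x = IsLocalRing.closedPoint k from Subsingleton.elim (α := PrimeSpectrum k) _ _])
      have he₁ : e₁ ≫ W.ι = e := IsOpenImmersion.lift_fac _ _ _
      have heq : e₁ (IsLocalRing.closedPoint k) = e' := W.ι.isOpenEmbedding.injective (by
        rw [← Scheme.Hom.comp_apply, he₁]; rfl)
      rw [← heq, ← Scheme.Hom.comp_apply]
      exact isClosed_section_point pP (e₁ ≫ j) (by rw [Category.assoc, hjp, ← Category.assoc, he₁, he])
    have hfib : (r ⁻¹' {j e'}).Nonempty := by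
      obtain ⟨n, hn⟩ := hsurj z
      exact ⟨n, show r n = j e' by rw [Scheme.Hom.comp_apply, hn, hz]⟩
    obtain ⟨n₀, hn₀, hn₀c⟩ := nonempty_inter_closedPoints hfib (hje.preimage r.continuous).isLocallyClosed
    let n := pointOfClosedPoint qN n₀ hn₀c
    have hn : n ≫ qN = 𝟙 _ := pointOfClosedPoint_comp _ _ _
    have hnp : n (IsLocalRing.closedPoint k) = n₀ := pointOfClosedPoint_apply _ _ _ _
    obtain ⟨t, ht, ⟨w₁, hw₁, hw₁'⟩, ⟨φ₁⟩⟩ := hpts n hn (by rw [hnp]; exact ⟨e', hn₀.symm⟩)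
    have hte : t = e := H06EGA15.section_ext qT t e ht he (by
      have h1 : w₁ = e' := j.isOpenEmbedding.injective (by rw [hw₁', hnp]; exact hn₀)
      rw [← hw₁, h1]
      rfl)
    subst hte
    exact ⟨n, hn, ⟨φ₁⟩⟩
  obtain ⟨na, hna, ⟨φa⟩⟩ := hlift a ha haW hwa
  obtain ⟨nb, hnb, ⟨φb⟩⟩ := hlift b hb hbW hwb
  obtain ⟨ψ⟩ := slices_iso pY qN hY hdim hH φ C c hc hcov hcurve hM' T' hTne (fun i n hn hnT => by
    obtain ⟨t, ht, -, ⟨φ'⟩⟩ := hpts n hn hnT
    obtain ⟨e'⟩ := htriv i t ht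
    exact ⟨(pC (c i) (sl₁ qN pY n hn) rfl M').symm ≪≫ (Scheme.Modules.pullback (c i)).mapIso φ' ≪≫
      pC (c i) (sl₂ pY qT t ht) rfl M ≪≫ e'⟩) na nb hna hnb
  exact ⟨φa.symm ≪≫ ψ ≪≫ φb⟩

/-- A family all whose members are trivial on the pieces of the divisor is constant on irreducible closed subsets. -/
theorem slices_iso_of_generization (hY : Pi1.IsNormalScheme Y) (hdim : (2 : WithBot ℕ∞) ≤ topologicalKrullDim Y)
    {H : Y.Modules} (hH : CohB1.IsAmple H) (φ : Coh.structureModule Y ⟶ H) [Mono φ]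
    {ι : Type u} [Finite ι] (C : ι → Scheme.{u}) (c : ∀ i, C i ⟶ Y) [∀ i, IsClosedImmersion (c i)]
    [∀ i, IsIntegral (C i)] (hc : ∀ i, Set.range (c i) ⊆ Set.range (PicF2.zeroScheme H φ).subschemeι)
    (hcov : Set.range (PicF2.zeroScheme H φ).subschemeι ⊆ ⋃ i, Set.range (c i))
    {T : Scheme.{u}} (qT : T ⟶ Spec (CommRingCat.of k)) [LocallyOfFiniteType qT] [QuasiCompact qT]
    {M : (pullback pY qT).Modules} (hM : PicF.IsInvertible M)
    (htriv : ∀ i (t : Spec (CommRingCat.of k) ⟶ T) (ht : t ≫ qT = 𝟙 _),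
      Nonempty ((Scheme.Modules.pullback (c i ≫ sl₂ pY qT t ht)).obj M ≅ Coh.structureModule (C i)))
    (w : T) (a b : Spec (CommRingCat.of k) ⟶ T) (ha : a ≫ qT = 𝟙 _) (hb : b ≫ qT = 𝟙 _)
    (hwa : w ⤳ a (IsLocalRing.closedPoint k)) (hwb : w ⤳ b (IsLocalRing.closedPoint k)) :
    Nonempty ((Scheme.Modules.pullback (sl₂ pY qT a ha)).obj M ≅
      (Scheme.Modules.pullback (sl₂ pY qT b hb)).obj M) := by
  haveI : JacobsonSpace T := LocallyOfFiniteType.jacobsonSpace qT
  haveI := geometricallyIntegral_of_isAlgClosed pY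
  haveI : Flat pY := H28Def.flat_of_field pY
  haveI : LocallyOfFinitePresentation pY := inferInstance
  let π := pullback.snd pY qT
  have hint : ∀ s : T, IsIntegral (π.fiber s) := fun s => inferInstance
  have hK := H12Pic.isIso_appTop_fiber_of_geomIntegral π
  have hpt : ∀ (t : T) (ht : IsClosed ({t} : Set T)), ∃ E : Set T, IsClosed E ∧
      ∀ (e : Spec (CommRingCat.of k) ⟶ T) (he : e ≫ qT = 𝟙 _), (e (IsLocalRing.closedPoint k) ∈ E ↔
        Nonempty ((Scheme.Modules.pullback (sl₂ pY qT (pointOfClosedPoint qT t ht)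
            (pointOfClosedPoint_comp qT t ht))).obj M ≅ (Scheme.Modules.pullback (sl₂ pY qT e he)).obj M)) := by
    intro t ht
    let τ := pointOfClosedPoint qT t ht
    have hτ : τ ≫ qT = 𝟙 _ := pointOfClosedPoint_comp _ _ _
    let B := (Scheme.Modules.pullback (sl₂ pY qT τ hτ)).obj M
    obtain ⟨A, hA, ⟨eA⟩⟩ := H11Sym.exists_inverse (L := B) (H11Ample.isInvertible_pullback _ hM)
    have hR : PicF.IsInvertible (CohB1.tensorMod M (pb (pullback.fst pY qT) A)) :=
      H11Ample.isInvertible_tensor hM (H11Ample.isInvertible_pullback _ hA)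
    refine ⟨_, LeadBC.TrivFiber.isClosed_trivial π hint hK _ hR, fun e he => ?_⟩
    rw [Set.mem_ofPred_eq, fiberMod_trivial_iff π qT e he (isPullback_sl₂ e he)]
    let Be := (Scheme.Modules.pullback (sl₂ pY qT e he)).obj M
    let ψ : (Scheme.Modules.pullback (sl₂ pY qT e he)).obj (CohB1.tensorMod M (pb (pullback.fst pY qT) A)) ≅
        CohB1.tensorMod Be A :=
      pT _ M _ ≪≫ tI (Iso.refl _) (pC _ _ (h := 𝟙 Y) (sl₂_fst e he) A ≪≫ pI (𝟙 Y) rfl A)
    constructor
    · rintro ⟨φ⟩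
      obtain ⟨θ⟩ := H25Theta.cancel_right hA
        (A := Be) (B := B) ⟨ψ.symm ≪≫ φ ≪≫ (H10Coh.Tw.commIso B A ≪≫ eA).symm⟩
      exact ⟨θ.symm⟩
    · rintro ⟨θ⟩
      exact ⟨ψ ≪≫ tI θ.symm (Iso.refl A) ≪≫ H10Coh.Tw.commIso B A ≪≫ eA⟩
  classical
  choose E hE hEiff using hpt
  let E' : T → Set T := fun t => if ht : IsClosed ({t} : Set T) then E t ht else Set.univ
  have hE' : ∀ t, IsClosed (E' t) := fun t => by
    simp only [E']
    split
    · exact hE _ _
    · exact isClosed_univ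
  have hcurve : ∀ w t : T, w ⤳ t → IsClosed ({t} : Set T) → cdim w ≤ 1 → w ∈ E' t := by
    intro w t hwt htc hd
    let τ := pointOfClosedPoint qT t htc
    have hτ : τ ≫ qT = 𝟙 _ := pointOfClosedPoint_comp _ _ _
    have hτt : τ (IsLocalRing.closedPoint k) = t := pointOfClosedPoint_apply _ _ _ _
    simp only [E', dif_pos htc]
    rcases eq_or_ne w t with rfl | hne
    · have h1 := (hEiff w htc τ hτ).2 ⟨Iso.refl _⟩
      rwa [hτt] at h1
    have hd1 : cdim w = 1 := by
      have h1 := H8Props.FieldDim.cdim_lt qT hwt hne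
      rw [H28Int.Curves.cdim_closed (by exact htc)] at h1
      obtain ⟨n, hn⟩ := H8Props.FieldDim.exists_nat_cdim qT w
      rw [hn] at hd h1 ⊢
      have h2 : n ≤ 1 := by exact_mod_cast hd
      have h3 : 0 < n := by exact_mod_cast h1
      obtain rfl : n = 1 := by omega
      rfl
    obtain ⟨W, hW, htW, -⟩ := exists_isAffineOpen_mem_and_subset (X := T) (x := t) (U := ⊤) trivial
    have hwW : w ∈ W := hwt.mem_open W.2 htW
    have hsub : closure ({w} : Set T) ∩ W ∩ closedPoints T ⊆ E t htc := by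
      rintro x ⟨⟨hxw, hxW⟩, hxc⟩
      let e := pointOfClosedPoint qT x hxc
      have he : e ≫ qT = 𝟙 _ := pointOfClosedPoint_comp _ _ _
      have hex : e (IsLocalRing.closedPoint k) = x := pointOfClosedPoint_apply _ _ _ _
      rw [← hex]
      exact (hEiff t htc e he).2 (slices_iso_curve pY hY hdim hH φ C c hc hcov qT hM htriv hW w hwW hd1 τ e hτ he
        (by rw [hτt]; exact htW) (by rw [hex]; exact hxW) (by rw [hτt]; exact hwt)
        (by rw [hex]; exact specializes_iff_mem_closure.2 hxw))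
    have h2 := (hE t htc).closure_subset_iff.2 hsub
    have h3 : closure (closure ({w} : Set T) ∩ W ∩ closedPoints T) = closure (closure ({w} : Set T) ∩ W) :=
      JacobsonSpace.closure_inter_closedPoints_eq_closure
        (isClosed_closure.isLocallyClosed.inter W.2.isLocallyClosed)
    exact h2 (h3.ge (subset_closure ⟨subset_closure rfl, hwW⟩))
  have hac : IsClosed ({a (IsLocalRing.closedPoint k)} : Set T) := isClosed_section_point qT a ha
  have hw : w ∈ E' (a (IsLocalRing.closedPoint k)) := mem_of_curves qT E' hE' hcurve w _ hwa hac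
  simp only [E', dif_pos hac] at hw
  obtain ⟨θ⟩ := (hEiff _ hac b hb).1 (hwb.mem_closed (hE _ hac) hw)
  have heq : pointOfClosedPoint qT _ hac = a := H06EGA15.section_ext qT _ a (pointOfClosedPoint_comp _ _ _) ha
    (pointOfClosedPoint_apply _ _ _ _)
  simp only [heq] at θ
  exact ⟨θ⟩

end Groth.Agent.H12Pic.FinKer
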