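import Groth.Agent.H12Pic.FinKer.Family
import Groth.Agent.H12Pic.NumTriv.Family

/-!
# Finiteness of the classes of a bounded set trivial on an ample divisor
-/

set_option autoImplicit false
set_option maxHeartbeats 1000000
set_option linter.style.haveILetI false
universe u

open CategoryTheory CategoryTheory.Limits AlgebraicGeometry Opposite TopologicalSpace
open Groth.Agent.H25Theta (pb pT pC pI tI)

noncomputable section

namespace Groth.Agent.H12Pic.FinKer

variable {k : Type u} [Field k] {Y : Scheme.{u}} [Y.Over (Spec (CommRingCat.of k))]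
  [IsProper (Y ↘ Spec (CommRingCat.of k))]

/-- The invertible members of a bounded set occur in finitely many invertible families. -/
theorem exists_invertible_families {P : Y.Modules → Prop} (hP : Pic13.IsBounded k Y P) :
    ∃ (N : ℕ) (U : Fin N → Scheme.{u}) (q : ∀ i, U i ⟶ Spec (CommRingCat.of k))
      (M : ∀ i, (Pic13.prodK k Y (q i)).Modules),
      (∀ i, LocallyOfFiniteType (q i) ∧ QuasiCompact (q i) ∧ PicF.IsInvertible (M i)) ∧
      ∀ L, P L → PicF.IsInvertible L → ∃ (i : Fin N) (t : Spec (CommRingCat.of k) ⟶ U i) (ht : t ≫ q i = 𝟙 _),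
        Nonempty (Pic13.fibreMod k Y (q i) t ht (M i) ≅ L) := by
  classical
  obtain ⟨T, q, hq, hq', G, hG, hmem⟩ := hP
  haveI := hq
  haveI := hq'
  haveI : IsLocallyNoetherian T := LocallyOfFiniteType.isLocallyNoetherian q
  haveI : CompactSpace T := QuasiCompact.compactSpace_of_compactSpace q
  haveI : IsNoetherian T := {}
  obtain ⟨N, W, g, hW, hlift⟩ := BoundedEuler.exists_strata k q G hG
  let f := pullback.snd (Y ↘ Spec (CommRingCat.of k)) q
  have hloc : ∀ i, ∃ (U : (W i).Opens) (O : (pullback f (g i)).Opens),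
      pullback.snd f (g i) ⁻¹ᵁ U ≤ O ∧ PicF.IsInvertible ((pb (pullback.fst f (g i)) G).restrict O.ι) ∧
      ∀ (w : Spec (CommRingCat.of k) ⟶ W i), w ≫ g i ≫ q = 𝟙 _ → ∀ (σ : Y ⟶ pullback f (g i)),
        IsPullback σ (Y ↘ Spec (CommRingCat.of k)) (pullback.snd f (g i)) w →
        PicF.IsInvertible ((Scheme.Modules.pullback σ).obj (pb (pullback.fst f (g i)) G)) →
          w (IsLocalRing.closedPoint k) ∈ U := fun i => by
    haveI := (hW i).1
    haveI : IsLocallyNoetherian (pullback f (g i)) :=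
      LocallyOfFiniteType.isLocallyNoetherian (pullback.snd f (g i))
    exact NumTriv.Family.exists_invertible_locus (Y ↘ Spec (CommRingCat.of k)) (g i ≫ q) (pullback.snd f (g i)) _
      (H17.ConsProp.isCoh_pullback (pullback.fst f (g i)) hG) (hW i).2.2
  choose U O hUO hOinv hmemU using hloc
  let qU : ∀ i, (U i : Scheme.{u}) ⟶ Spec (CommRingCat.of k) := fun i => (U i).ι ≫ g i ≫ q
  let h₁ : ∀ i, Pic13.prodK k Y (qU i) ⟶ Pic13.prodK k Y q := fun i =>
    pullback.lift (pullback.fst (Y ↘ Spec (CommRingCat.of k)) (qU i)) (pullback.snd _ (qU i) ≫ (U i).ι ≫ g i)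
      (by rw [pullback.condition]; simp [qU, Category.assoc])
  let h₂ : ∀ i, Pic13.prodK k Y (qU i) ⟶ pullback f (g i) := fun i =>
    pullback.lift (h₁ i) (pullback.snd _ (qU i) ≫ (U i).ι) ((pullback.lift_snd _ _ _).trans (Category.assoc _ _ _).symm)
  refine ⟨N, fun i => (U i).toScheme, qU, fun i => pb (h₂ i) (pb (pullback.fst f (g i)) G), fun i => ?_,
    fun L hL hLi => ?_⟩
  · haveI := (hW i).1
    haveI := (hW i).2.1
    haveI : LocallyOfFiniteType (qU i) := by dsimp [qU]; infer_instance
    haveI : IsLocallyNoetherian (U i).toScheme := LocallyOfFiniteType.isLocallyNoetherian (qU i)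
    haveI : NoetherianSpace (U i).toScheme := (U i).ι.isOpenEmbedding.isInducing.noetherianSpace
    refine ⟨inferInstance, (HasAffineProperty.iff_of_isAffine (P := @QuasiCompact)).2 inferInstance, ?_⟩
    refine NumTriv.Family.isInvertible_pullback_of_range (O i) (hOinv i) (h₂ i) ?_
    rintro _ ⟨y, rfl⟩
    refine hUO i ?_
    show pullback.snd f (g i) (h₂ i y) ∈ U i
    rw [← Scheme.Hom.comp_apply, pullback.lift_snd, Scheme.Hom.comp_apply]
    exact (pullback.snd (Y ↘ Spec (CommRingCat.of k)) (qU i) y).2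
  · obtain ⟨t, ht, ⟨e⟩⟩ := hmem L hL
    obtain ⟨i, w, rfl⟩ := hlift t
    obtain ⟨σ, hsq, -, ⟨e'⟩⟩ := BoundedEuler.exists_slice k q (g i) w ht G
    have hwU := hmemU i w (by rw [← Category.assoc]; exact ht) σ hsq
      (H11Tilde.isInvertible_of_iso (e' ≪≫ e).symm hLi)
    let w' : Spec (CommRingCat.of k) ⟶ U i := IsOpenImmersion.lift (U i).ι w (by
      rw [Scheme.Opens.range_ι]
      rintro _ ⟨x, rfl⟩
      rwa [show x = IsLocalRing.closedPoint k from Subsingleton.elim (α := PrimeSpectrum k) _ _])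
    have hw' : w' ≫ (U i).ι = w := IsOpenImmersion.lift_fac _ _ _
    refine ⟨i, w', by simp only [qU, reassoc_of% hw']; rw [← Category.assoc]; exact ht, ⟨?_⟩⟩
    refine pC _ (h₂ i) rfl _ ≪≫ pC _ (pullback.fst f (g i)) ?_ G ≪≫ e
    rw [Category.assoc, pullback.lift_fst]
    apply pullback.hom_ext
    · rw [Category.assoc, pullback.lift_fst]
      exact (pullback.lift_fst _ _ _).trans (pullback.lift_fst _ _ _).symm
    · rw [Category.assoc, pullback.lift_snd, ← Category.assoc]
      erw [pullback.lift_snd]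
      simp only [Pic13.sliceAt, pullback.lift_snd, Category.assoc, reassoc_of% hw']

/-- Invertible modules of a bounded set which are trivial on the pieces of an ample divisor of a normal variety
form finitely many classes. -/
theorem finite_classes [IsAlgClosed k] [IsIntegral Y] (hY : Pi1.IsNormalScheme Y)
    (hdim : (2 : WithBot ℕ∞) ≤ topologicalKrullDim Y)
    {H : Y.Modules} (hH : CohB1.IsAmple H) (φ : Coh.structureModule Y ⟶ H) [Mono φ]
    {P : Y.Modules → Prop} (hP : Pic13.IsBounded k Y P) :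
    Set.Finite {c : PicF.Cl Y | ∃ L : Y.Modules, PicF.cl L = c ∧ PicF.IsInvertible L ∧ P L ∧
      PicF.IsTrivialCl (PicF.pullCl (PicF2.zeroScheme H φ).subschemeι c)} := by
  classical
  obtain ⟨N, U, q, M, hq, hmem⟩ := exists_invertible_families hP
  let Z := (PicF2.zeroScheme H φ).subscheme
  let ζ := (PicF2.zeroScheme H φ).subschemeι
  haveI := H28Int.isNoetherian k (X := Y)
  haveI : NoetherianSpace Z := ζ.isClosedEmbedding.isInducing.noetherianSpace
  haveI : Finite (irreducibleComponents Z) := NoetherianSpace.finite_irreducibleComponents.to_subtype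
  let gen : irreducibleComponents Z → Z := fun z => z.2.1.genericPoint
  let J : irreducibleComponents Z → Z.IdealSheafData := fun z =>
    Scheme.IdealSheafData.vanishingIdeal (H22Alg.DevLength.cl (gen z))
  haveI : ∀ z, IsIntegral (J z).subscheme := fun z => H22Alg.isIntegral_vanishingIdeal_closure (gen z)
  let c : ∀ z, (J z).subscheme ⟶ Y := fun z => (J z).subschemeι ≫ ζ
  haveI : ∀ z, IsClosedImmersion (c z) := fun z => inferInstanceAs (IsClosedImmersion ((J z).subschemeι ≫ ζ))
  have hc : ∀ z, Set.range (c z) ⊆ Set.range ζ := fun z => by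
    rintro _ ⟨x, rfl⟩
    exact ⟨(J z).subschemeι x, (Scheme.Hom.comp_apply _ _ _).symm⟩
  have hcov : Set.range ζ ⊆ ⋃ z, Set.range (c z) := by
    rintro _ ⟨x, rfl⟩
    let z : irreducibleComponents Z := ⟨irreducibleComponent x, irreducibleComponent_mem_irreducibleComponents x⟩
    refine Set.mem_iUnion.2 ⟨z, ?_⟩
    have hx : x ∈ Set.range (J z).subschemeι := by
      rw [H17.range_vanishingIdeal_subschemeι]
      show x ∈ closure {gen z}
      rw [z.2.1.closure_genericPoint (isClosed_of_mem_irreducibleComponents _ z.2)]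
      exact mem_irreducibleComponent
    obtain ⟨y, hy⟩ := hx
    exact ⟨y, by rw [Scheme.Hom.comp_apply, hy]⟩
  let pY := Y ↘ Spec (CommRingCat.of k)
  haveI := geometricallyIntegral_of_isAlgClosed pY
  -- the good locus of each family
  have hG : ∀ i, ∃ S : Set (U i), IsClosed S ∧ ∀ (t : Spec (CommRingCat.of k) ⟶ U i) (ht : t ≫ q i = 𝟙 _),
      (t (IsLocalRing.closedPoint k) ∈ S ↔ ∀ z,
        Nonempty ((Scheme.Modules.pullback (c z ≫ sl₂ pY (q i) t ht)).obj (M i) ≅
          Coh.structureModule (J z).subscheme)) := by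
    intro i
    have hz : ∀ z, ∃ S : Set (U i), IsClosed S ∧ ∀ (t : Spec (CommRingCat.of k) ⟶ U i) (ht : t ≫ q i = 𝟙 _),
        (t (IsLocalRing.closedPoint k) ∈ S ↔ Nonempty ((Scheme.Modules.pullback (c z ≫ sl₂ pY (q i) t ht)).obj (M i) ≅
          Coh.structureModule (J z).subscheme)) := by
      intro z
      haveI := (hq i).1
      let pC' := c z ≫ pY
      haveI : IsProper pC' := inferInstanceAs (IsProper (c z ≫ pY))
      haveI := geometricallyIntegral_of_isAlgClosed pC'
      haveI : Flat pC' := H28Def.flat_of_field pC'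
      haveI : LocallyOfFinitePresentation pC' := inferInstance
      let j : pullback pC' (q i) ⟶ pullback pY (q i) :=
        pullback.map pC' (q i) pY (q i) (c z) (𝟙 _) (𝟙 _) (by simp [pC']) (by simp)
      let π := pullback.snd pC' (q i)
      refine ⟨_, LeadBC.TrivFiber.isClosed_trivial π (fun s => inferInstance)
        (H12Pic.isIso_appTop_fiber_of_geomIntegral π) _ (H11Ample.isInvertible_pullback j (hq i).2.2), fun t ht => ?_⟩
      rw [Set.mem_ofPred_eq, fiberMod_trivial_iff π (q i) t ht (isPullback_sl₂ t ht)]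
      have hj : sl₂ pC' (q i) t ht ≫ j = c z ≫ sl₂ pY (q i) t ht := by
        apply pullback.hom_ext
        · rw [Category.assoc, Category.assoc, show j ≫ pullback.fst pY (q i) = _ from pullback.lift_fst _ _ _,
            ← Category.assoc, sl₂_fst, Category.id_comp, sl₂_fst, Category.comp_id]
        · rw [Category.assoc, Category.assoc, show j ≫ pullback.snd pY (q i) = _ from pullback.lift_snd _ _ _,
            Category.comp_id, sl₂_snd, sl₂_snd]
          exact Category.assoc _ _ _
      exact ⟨fun ⟨e⟩ => ⟨(pC _ j hj (M i)).symm ≪≫ e⟩, fun ⟨e⟩ => ⟨pC _ j hj (M i) ≪≫ e⟩⟩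
    choose S hS hSiff using hz
    refine ⟨⋂ z, S z, isClosed_iInter hS, fun t ht => ?_⟩
    rw [Set.mem_iInter]
    exact forall_congr' fun z => hSiff z t ht
  choose S hS hSiff using hG
  let V : Fin N → Scheme.{u} := fun i => (Scheme.IdealSheafData.vanishingIdeal ⟨S i, hS i⟩).subscheme
  let v : ∀ i, V i ⟶ U i := fun i => (Scheme.IdealSheafData.vanishingIdeal ⟨S i, hS i⟩).subschemeι
  haveI : ∀ i, Finite (irreducibleComponents (V i)) := fun i => by
    haveI := (hq i).1
    haveI := (hq i).2.1
    haveI : IsLocallyNoetherian (U i) := LocallyOfFiniteType.isLocallyNoetherian (q i)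
    haveI : CompactSpace (U i) := QuasiCompact.compactSpace_of_compactSpace (q i)
    haveI : IsNoetherian (U i) := {}
    haveI : NoetherianSpace (V i) := (v i).isClosedEmbedding.isInducing.noetherianSpace
    exact NoetherianSpace.finite_irreducibleComponents.to_subtype
  let K : (Σ i, irreducibleComponents (V i)) → Set (PicF.Cl Y) := fun a =>
    {c | ∃ (t : Spec (CommRingCat.of k) ⟶ V a.1) (ht : (t ≫ v a.1) ≫ q a.1 = 𝟙 _),
      t (IsLocalRing.closedPoint k) ∈ (a.2 : Set (V a.1)) ∧
      PicF.cl (Pic13.fibreMod k Y (q a.1) (t ≫ v a.1) ht (M a.1)) = c}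
  refine (Set.finite_iUnion (f := K) fun a => Set.Subsingleton.finite ?_).subset ?_
  · obtain ⟨i, C₀, hC₀⟩ := a
    haveI := (hq i).1
    haveI := (hq i).2.1
    rintro _ ⟨t, ht, htC, rfl⟩ _ ⟨t', ht', htC', rfl⟩
    let g : pullback pY (v i ≫ q i) ⟶ pullback pY (q i) :=
      pullback.map pY (v i ≫ q i) pY (q i) (𝟙 Y) (v i) (𝟙 _) (by simp) (by simp)
    have hg : ∀ (s : Spec (CommRingCat.of k) ⟶ V i) (hs : s ≫ v i ≫ q i = 𝟙 _),
        sl₂ pY (v i ≫ q i) s hs ≫ g = sl₂ pY (q i) (s ≫ v i) (by rw [Category.assoc]; exact hs) := fun s hs => by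
      apply pullback.hom_ext
      · rw [Category.assoc, show g ≫ pullback.fst pY (q i) = _ from pullback.lift_fst _ _ _, Category.comp_id,
          sl₂_fst, sl₂_fst]
      · rw [Category.assoc, show g ≫ pullback.snd pY (q i) = _ from pullback.lift_snd _ _ _, sl₂_snd_assoc, sl₂_snd]
    haveI : LocallyOfFiniteType (v i ≫ q i) := inferInstance
    haveI : QuasiCompact (v i ≫ q i) := inferInstance
    obtain ⟨e⟩ := slices_iso_of_generization pY hY hdim hH φ (fun z => (J z).subscheme) c hc hcov (v i ≫ q i)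
      (H11Ample.isInvertible_pullback g (hq i).2.2) (fun z s hs => by
        obtain ⟨e⟩ := (hSiff i (s ≫ v i) (by rw [Category.assoc]; exact hs)).1 (by
          have h := Set.mem_range_self (f := v i) (s (IsLocalRing.closedPoint k))
          rw [H17.range_vanishingIdeal_subschemeι] at h
          rw [Scheme.Hom.comp_apply]
          exact h) z
        exact ⟨pC (c z ≫ sl₂ pY (v i ≫ q i) s hs) g (by rw [Category.assoc, hg]) (M i) ≪≫ e⟩)
      hC₀.1.genericPoint t t' (by rw [← Category.assoc]; exact ht) (by rw [← Category.assoc]; exact ht')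
      (specializes_iff_mem_closure.2 (by
        rw [hC₀.1.closure_genericPoint (isClosed_of_mem_irreducibleComponents _ hC₀)]; exact htC))
      (specializes_iff_mem_closure.2 (by
        rw [hC₀.1.closure_genericPoint (isClosed_of_mem_irreducibleComponents _ hC₀)]; exact htC'))
    exact Quot.sound ⟨(pC _ g (hg t _) (M i)).symm ≪≫ e ≪≫ pC _ g (hg t' _) (M i)⟩
  · rintro _ ⟨L, rfl, hLi, hL, htr⟩
    obtain ⟨i, t, ht, ⟨e⟩⟩ := hmem L hL hLi
    have htS : t (IsLocalRing.closedPoint k) ∈ S i := (hSiff i t ht).2 fun z => by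
      obtain ⟨φ₀⟩ := H12Pic.Sep.iso_of_cl_eq (A := Z) htr
      exact ⟨(pC (c z) (Pic13.sliceAt k Y (q i) t ht) rfl (M i)).symm ≪≫
        (Scheme.Modules.pullback (c z)).mapIso e ≪≫ (pC (J z).subschemeι ζ rfl L).symm ≪≫
        (Scheme.Modules.pullback (J z).subschemeι).mapIso φ₀ ≪≫ PicLoc.pullbackStructureIso _⟩
    obtain ⟨t', rfl⟩ : ∃ t' : Spec (CommRingCat.of k) ⟶ V i, t' ≫ v i = t := by
      refine H17.exists_lift_immersion_of_range_subset t (v i) ?_
      rintro _ ⟨x, rfl⟩
      rw [show x = IsLocalRing.closedPoint k from Subsingleton.elim (α := PrimeSpectrum k) _ _,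
        H17.range_vanishingIdeal_subschemeι]
      exact htS
    exact Set.mem_iUnion.2 ⟨⟨i, ⟨_, irreducibleComponent_mem_irreducibleComponents (t' (IsLocalRing.closedPoint k))⟩⟩,
      t', ht, mem_irreducibleComponent, Quot.sound ⟨e⟩⟩

end Groth.Agent.H12Pic.FinKer
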