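import Groth.Agent.H12Pic.FinKer.Finite
import Groth.Agent.H25Cut
import Groth.Agent.H29RR.MonoHom
import Groth.Agent.S5633

/-!
# The zero scheme of a section: the trivial case and the dimension of its components
-/

set_option autoImplicit false
set_option maxHeartbeats 1000000
set_option linter.style.haveILetI false
universe u

open CategoryTheory CategoryTheory.Limits AlgebraicGeometry Opposite TopologicalSpace
open Groth.Agent.H8Props.FieldDim (cdim)

noncomputable section

namespace Groth.Agent.H12Pic.FinKer

variable {Y : Scheme.{u}}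

/-- The zero section has everything as zero scheme: only the trivial class dies there. -/
theorem finite_of_eq_zero [IsIntegral Y] [IsLocallyNoetherian Y] {H : Y.Modules} (hH : PicF.IsInvertible H)
    (φ : Coh.structureModule Y ⟶ H) (h0 : φ = 0) :
    Set.Finite {c : PicF.Cl Y | PicF.IsTrivialCl (PicF.pullCl (PicF2.zeroScheme H φ).subschemeι c)} := by
  subst h0
  let ζ := (PicF2.zeroScheme H (0 : Coh.structureModule Y ⟶ H)).subschemeι
  have hsurj : Set.range ζ = Set.univ := by
    refine Set.eq_univ_of_forall fun x => H12Pic.Hodge.mem_range_zeroScheme hH _ fun hx => ?_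
    have h := (H11Ample.mem_gen_iff hH _ x).1 hx
    have hv : SecTwist.val (0 : Coh.structureModule Y ⟶ H) ⊤ = 0 := rfl
    rw [hv] at h
    have h0 : H.presheaf.germ ⊤ x trivial (0 : Γ(H, ⊤)) = 0 := map_zero _
    have hzero : (1 : Y.presheaf.stalk x) = 0 := h.1 (by
      show (1 : Y.presheaf.stalk x) • _ = (0 : Y.presheaf.stalk x) • _
      rw [zero_smul, one_smul]
      exact h0)
    exact one_ne_zero hzero
  haveI : Surjective ζ := ⟨fun x => (hsurj.ge (Set.mem_univ x))⟩
  haveI : IsIso ζ := isIso_of_isClosedImmersion_of_surjective ζ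
  refine (Set.finite_singleton (PicF.cl (Coh.structureModule Y))).subset fun c hc => ?_
  refine H12Pic.Sep.pullCl_injective ζ (hc.trans ?_)
  exact (Quot.sound ⟨PicLoc.pullbackStructureIso ζ⟩).symm

variable {k : Type u} [Field k]

/-- Each component of the zero scheme of a section on a variety of dimension at least three has dimension at
least two. -/
theorem two_le_component (pY : Y ⟶ Spec (CommRingCat.of k)) [LocallyOfFiniteType pY] [IsIntegral Y]
    (hdim : (3 : WithBot ℕ∞) ≤ topologicalKrullDim Y) {H : Y.Modules} (hH : PicF.IsInvertible H)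
    (φ : Coh.structureModule Y ⟶ H) [Mono φ] :
    ∀ Z ∈ irreducibleComponents (Y : Type u),
      ∀ W ∈ irreducibleComponents ↥(Z ∩ Set.range (PicF2.zeroScheme H φ).subschemeι.base),
        (2 : WithBot ℕ∞) ≤ topologicalKrullDim ↥W := by
  intro Z hZ
  have hZu : Z = Set.univ := by
    rw [irreducibleComponents_eq_singleton] at hZ
    exact hZ
  subst hZu
  intro W hW
  haveI : IsLocallyNoetherian Y := LocallyOfFiniteType.isLocallyNoetherian pY
  let g : Γ(H, ⊤) := SecTwist.val φ ⊤
  have hr : Set.range (PicF2.zeroScheme H φ).subschemeι = (H11Ample.gen H g : Set Y)ᶜ :=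
    H22Alg.ESZInt.range_zeroScheme hH φ
  let S : Set Y := Set.univ ∩ Set.range (PicF2.zeroScheme H φ).subschemeι.base
  have hS : IsClosed S := isClosed_univ.inter (PicF2.zeroScheme H φ).subschemeι.isClosedEmbedding.isClosed_range
  haveI : QuasiSober S := hS.isClosedEmbedding_subtypeVal.quasiSober
  have hWc := isClosed_of_mem_irreducibleComponents _ hW
  let y : S := hW.1.genericPoint
  have hy : closure {y} = W := hW.1.closure_genericPoint hWc
  let t : Y := y.1
  have htg : t ∉ H11Ample.gen H g := fun h => by
    have := y.2.2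
    rw [hr] at this
    exact this h
  obtain ⟨V₀, e, htV₀, he⟩ := H11Ample.exists_gen hH t
  obtain ⟨V, hV, htV, hVV₀⟩ := exists_isAffineOpen_mem_and_subset (x := t) (U := V₀) htV₀
  obtain ⟨c, hc⟩ := H11Ample.exists_coeff (he.res hVV₀) (H.presheaf.map (homOfLE (le_top : V ≤ ⊤)).op g)
  have hgen : H11Ample.gen H g ⊓ V = Y.basicOpen c := H11Ample.gen_inf_eq_basicOpen (he.res hVV₀) g c hc
  have hηt : genericPoint Y ⤳ t := (genericPoint_spec Y).specializes (Set.mem_univ t)
  have hcut := H25Cut.cdim_cut_le pY hηt hV htV {c} (Set.finite_singleton c) 1 (by simp)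
    (fun g' hg' hm => by
      rw [Set.mem_singleton_iff.1 hg'] at hm
      rw [← hgen] at hm
      exact htg hm.1)
    (fun z _ hzt hz => by
      have hzg : z ∉ H11Ample.gen H g := fun hm => hz c rfl (by
        rw [← hgen]; exact ⟨hm, hzt.mem_open V.2 htV⟩)
      let z' : S := ⟨z, trivial, by rw [hr]; exact hzg⟩
      have hzy : z' ⤳ y := (subtype_specializes_iff _ _).2 hzt
      have hle : W ⊆ closure {z'} := by
        rw [← hy]
        exact closure_minimal (Set.singleton_subset_iff.2 hzy.mem_closure) isClosed_closure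
      have heq := hW.2 (isIrreducible_singleton.closure) hle
      have hyz : y ⤳ z' := specializes_iff_mem_closure.2 (hy.symm ▸ heq (subset_closure rfl))
      exact ((Specializes.antisymm ((subtype_specializes_iff _ _).1 hyz) hzt).eq).symm)
  have hWdim : cdim t ≤ topologicalKrullDim ↥W := by
    rw [(Topology.IsEmbedding.subtypeVal.homeomorphImage W).isHomeomorph.topologicalKrullDim_eq]
    refine H25Cut.cdim_le_dim (hS.isClosedEmbedding_subtypeVal.isClosedMap _ hWc) ⟨y, ?_, rfl⟩
    rw [← hy]
    exact subset_closure rfl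
  refine le_trans ?_ hWdim
  rw [H22Alg.VarDim.cdim_genericPoint Y] at hcut
  have h3 := hdim.trans hcut
  obtain ⟨n, hn⟩ := H8Props.FieldDim.exists_nat_cdim pY t
  rw [hn] at h3 ⊢
  have h4 : 3 ≤ n + 1 := by exact_mod_cast h3
  exact_mod_cast (show 2 ≤ n by omega)

end Groth.Agent.H12Pic.FinKer
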