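import Groth.Agent.H12Pic.Seesaw
import Groth.Agent.H12Pic.FibreConst
import Groth.Agent.LeadBC.TrivFiber

/-!
# Slices of a product over a field, and the seesaw principle checked on slices at rational points
-/

set_option autoImplicit false
set_option maxHeartbeats 800000
set_option linter.style.haveILetI false
universe u

open CategoryTheory CategoryTheory.Limits AlgebraicGeometry Opposite TopologicalSpace
open Groth.Agent.H25Theta (pb pT pC pI tI)

noncomputable section

namespace Groth.Agent.H12Pic.FinKer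

variable {k : Type u} [Field k] {X Y : Scheme.{u}} (f : X ⟶ Spec (CommRingCat.of k))
  (g : Y ⟶ Spec (CommRingCat.of k))

/-- The slice over a rational point of the second factor. -/
def sl₂ (a : Spec (CommRingCat.of k) ⟶ Y) (ha : a ≫ g = 𝟙 _) : X ⟶ pullback f g :=
  pullback.lift (𝟙 X) (f ≫ a) (by rw [Category.id_comp, Category.assoc, ha, Category.comp_id])

/-- The slice over a rational point of the first factor. -/
def sl₁ (t : Spec (CommRingCat.of k) ⟶ X) (ht : t ≫ f = 𝟙 _) : Y ⟶ pullback f g :=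
  pullback.lift (g ≫ t) (𝟙 Y) (by rw [Category.id_comp, Category.assoc, ht, Category.comp_id])

variable {f g}

@[reassoc] theorem sl₂_fst (a : Spec (CommRingCat.of k) ⟶ Y) (ha : a ≫ g = 𝟙 _) :
    sl₂ f g a ha ≫ pullback.fst f g = 𝟙 X := pullback.lift_fst _ _ _

@[reassoc] theorem sl₂_snd (a : Spec (CommRingCat.of k) ⟶ Y) (ha : a ≫ g = 𝟙 _) :
    sl₂ f g a ha ≫ pullback.snd f g = f ≫ a := pullback.lift_snd _ _ _

@[reassoc] theorem sl₁_fst (t : Spec (CommRingCat.of k) ⟶ X) (ht : t ≫ f = 𝟙 _) :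
    sl₁ f g t ht ≫ pullback.fst f g = g ≫ t := pullback.lift_fst _ _ _

@[reassoc] theorem sl₁_snd (t : Spec (CommRingCat.of k) ⟶ X) (ht : t ≫ f = 𝟙 _) :
    sl₁ f g t ht ≫ pullback.snd f g = 𝟙 Y := pullback.lift_snd _ _ _

theorem isPullback_sl₂ (a : Spec (CommRingCat.of k) ⟶ Y) (ha : a ≫ g = 𝟙 _) :
    IsPullback (sl₂ f g a ha) f (pullback.snd f g) a := by
  refine IsPullback.of_right ?_ (sl₂_snd a ha) (IsPullback.of_hasPullback f g)
  rw [ha, sl₂_fst]
  exact IsPullback.of_horiz_isIso ⟨by simp⟩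

theorem isPullback_sl₁ (t : Spec (CommRingCat.of k) ⟶ X) (ht : t ≫ f = 𝟙 _) :
    IsPullback (sl₁ f g t ht) g (pullback.fst f g) t := by
  refine IsPullback.of_right ?_ (sl₁_fst t ht) (IsPullback.of_hasPullback f g).flip
  rw [ht, sl₁_snd]
  exact IsPullback.of_horiz_isIso ⟨by simp⟩

theorem isIso_of_retraction {A : CommRingCat.{u}} (hA : IsField A) (ρ : CommRingCat.of k ⟶ A)
    (σ : A ⟶ CommRingCat.of k) (h : ρ ≫ σ = 𝟙 _) : IsIso σ := by
  letI := hA.toField
  rw [ConcreteCategory.isIso_iff_bijective]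
  exact ⟨σ.hom.injective, fun c => ⟨ρ.hom c, congrArg (fun φ : CommRingCat.of k ⟶ CommRingCat.of k => φ.hom c) h⟩⟩

/-- Triviality on the fibre over a rational point, read on any fibre square. -/
theorem fiberMod_trivial_iff {P S : Scheme.{u}} (π : P ⟶ S) (q : S ⟶ Spec (CommRingCat.of k))
    (t : Spec (CommRingCat.of k) ⟶ S) (ht : t ≫ q = 𝟙 _) {Z : Scheme.{u}} {j : Z ⟶ P}
    {pZ : Z ⟶ Spec (CommRingCat.of k)} (hsq : IsPullback j pZ π t) (L : P.Modules) :
    Nonempty (CohIII.fiberMod π L (t (IsLocalRing.closedPoint k)) ≅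
        Coh.structureModule (π.fiber (t (IsLocalRing.closedPoint k)))) ↔
      Nonempty ((Scheme.Modules.pullback j).obj L ≅ Coh.structureModule Z) := by
  let s := t (IsLocalRing.closedPoint k)
  let σ := S.descResidueField (Scheme.stalkClosedPointTo t)
  have hσ : Spec.map σ ≫ S.fromSpecResidueField s = t :=
    Scheme.descResidueField_stalkClosedPointTo_fromSpecResidueField k S t
  obtain ⟨ρ, hρ⟩ := Spec.map_surjective (S.fromSpecResidueField s ≫ q)
  haveI : IsIso σ := isIso_of_retraction (Field.toIsField _) ρ σ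
    (Spec.map_injective (by rw [Spec.map_comp, hρ, ← Category.assoc, hσ, ht, Spec.map_id]))
  have hsq' : IsPullback j (pZ ≫ Spec.map σ) π (S.fromSpecResidueField s) :=
    hsq.of_iso (Iso.refl Z) (Iso.refl P) (asIso (Spec.map σ)) (Iso.refl S) (by simp) (by simp) (by simp)
      (by simpa using hσ.symm)
  let e := hsq'.isoPullback
  have he : e.hom ≫ π.fiberι s = j := hsq'.isoPullback_hom_fst
  constructor
  · rintro ⟨φ⟩
    exact ⟨(pC e.hom (π.fiberι s) he L).symm ≪≫ (Scheme.Modules.pullback e.hom).mapIso φ ≪≫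
      PicLoc.pullbackStructureIso e.hom⟩
  · rintro ⟨φ⟩
    exact ⟨(pC e.inv j (show e.inv ≫ j = π.fiberι s by rw [← he, Iso.inv_hom_id_assoc]) L).symm ≪≫
      (Scheme.Modules.pullback e.inv).mapIso φ ≪≫ PicLoc.pullbackStructureIso e.inv⟩

/-- Seesaw: over a reduced base, triviality on the fibres over a dense set of rational points gives a module
from the base. -/
theorem exists_from_base {P S : Scheme.{u}} (π : P ⟶ S) [IsProper π] [Flat π] [LocallyOfFinitePresentation π]
    [GeometricallyIntegral π] [IsReduced S] {L : P.Modules} (hL : PicF.IsInvertible L) (D : Set S) (hD : Dense D)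
    (h : ∀ s ∈ D, Nonempty (CohIII.fiberMod π L s ≅ Coh.structureModule (π.fiber s))) :
    ∃ Q : S.Modules, PicF.IsInvertible Q ∧ Nonempty ((Scheme.Modules.pullback π).obj Q ≅ L) := by
  have hK := H12Pic.isIso_appTop_fiber_of_geomIntegral π
  have hcl := LeadBC.TrivFiber.isClosed_trivial π (fun s => inferInstance) hK L hL
  have hall : ∀ s, Nonempty (CohIII.fiberMod π L s ≅ Coh.structureModule (π.fiber s)) := fun s =>
    hcl.closure_subset (closure_mono h (hD s))
  obtain ⟨hQ, hiso⟩ := H12Pic.seesaw π hL hK hall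
  exact ⟨_, hQ, ⟨asIso ((Scheme.Modules.pullbackPushforwardAdjunction π).counit.app L)⟩⟩

end Groth.Agent.H12Pic.FinKer
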